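import Cfsg.Agent.H0.Ext
import Cfsg.Agent.H6.Perm24

/-! Permutation models coming from an action on classes of an invariant equivalence relation. -/

namespace H6
open H0 MulAction

structure AD (G X : Type) [Group G] [MulAction G X] where
  r : X → X → Prop
  eqv : Equivalence r
  F : Subgroup G
  inv : ∀ k ∈ F, ∀ a b, r a b → r (k • a) (k • b)
  n : ℕ
  p : ℕ → X

namespace AD
variable {G X : Type} [Group G] [MulAction G X] (D : AD G X)

def Cmp (k : G) (π : Equiv.Perm ℕ) : Prop :=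
  k ∈ D.F ∧ (∀ j < D.n, π j < D.n ∧ D.r (k • D.p j) (D.p (π j))) ∧ ∀ j, D.n ≤ j → π j = j

def UniqAt (j : ℕ) : Prop := j < D.n → ∀ i < D.n, D.r (D.p i) (D.p j) → i = j

def Inj : Prop := ∀ j, D.UniqAt j

variable {D}

theorem Cmp.one : D.Cmp 1 1 := ⟨one_mem _, fun j hj => ⟨hj, by rw [one_smul]; exact D.eqv.refl _⟩, fun _ _ => rfl⟩

theorem Cmp.mul {k l : G} {π σ : Equiv.Perm ℕ} (h : D.Cmp k π) (h' : D.Cmp l σ) : D.Cmp (k * l) (π * σ) := by
  refine ⟨mul_mem h.1 h'.1, fun j hj => ?_, fun j hj => ?_⟩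
  · obtain ⟨h1, h2⟩ := h'.2.1 j hj
    obtain ⟨h3, h4⟩ := h.2.1 _ h1
    exact ⟨h3, by rw [mul_smul]; exact D.eqv.trans (D.inv k h.1 _ _ h2) h4⟩
  · rw [Equiv.Perm.mul_apply, h'.2.2 j hj, h.2.2 j hj]

theorem Cmp.inv {k : G} {π : Equiv.Perm ℕ} (h : D.Cmp k π) : D.Cmp k⁻¹ π⁻¹ := by
  refine ⟨inv_mem h.1, fun j hj => ?_, fun j hj => ?_⟩
  · have h1 : π⁻¹ j < D.n := by
      by_contra hc
      have := h.2.2 _ (Nat.le_of_not_lt hc)
      simp only [Equiv.Perm.coe_inv, Equiv.apply_symm_apply] at this hc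
      omega
    have h2 := D.inv _ (inv_mem h.1) _ _ (h.2.1 _ h1).2
    rw [inv_smul_smul, show π (π⁻¹ j) = j by simp] at h2
    exact ⟨h1, D.eqv.symm h2⟩
  · rw [Equiv.Perm.inv_eq_iff_eq, h.2.2 j hj]

theorem Cmp.uniq (hI : D.Inj) {k : G} {π σ : Equiv.Perm ℕ} (h : D.Cmp k π) (h' : D.Cmp k σ) : π = σ := by
  ext j
  by_cases hj : j < D.n
  · exact hI _ (h'.2.1 j hj).1 _ (h.2.1 j hj).1 (D.eqv.trans (D.eqv.symm (h.2.1 j hj).2) (h'.2.1 j hj).2)
  · rw [h.2.2 j (by omega), h'.2.2 j (by omega)]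

theorem Cmp.ev {g : ℕ → G} {π : ℕ → Equiv.Perm ℕ} (h : ∀ x, D.Cmp (g x) (π x)) (w : List ℕ) :
    D.Cmp (ev g w) (ev π w) := by
  induction w with
  | nil => exact Cmp.one
  | cons x w ih => rw [ev_cons, ev_cons]; exact (h x).mul ih

variable (D) in
def SS : Subgroup G where
  carrier := {k | ∃ π, D.Cmp k π}
  one_mem' := ⟨1, Cmp.one⟩
  mul_mem' := fun ⟨_, h⟩ ⟨_, h'⟩ => ⟨_, h.mul h'⟩
  inv_mem' := fun ⟨_, h⟩ => ⟨_, h.inv⟩

noncomputable def φS (hI : D.Inj) : D.SS →* Equiv.Perm ℕ :=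
  MonoidHom.mk' (fun k => k.2.choose) fun k l =>
    (k * l).2.choose_spec.uniq hI (k.2.choose_spec.mul l.2.choose_spec)

theorem cmp_φS (hI : D.Inj) (k : D.SS) : D.Cmp k (φS hI k) := k.2.choose_spec

/-- injectivity from uniqueness at orbit representatives -/
theorem inj_of_grow {R : BN.Rep} {g : ℕ → G} (h : ∀ x, D.Cmp (g x) (R.p x)) (hn : D.n ≤ R.N) (S : ℕ)
    (hS : ∀ j, S.testBit j = true → D.UniqAt j) (prog : List (List ℕ))
    (hg : BN.grow R (fun T => Nat.beq (Nat.land T (BN.ival 0 D.n)) (BN.ival 0 D.n)) prog S = true) : D.Inj := by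
  obtain ⟨T, h1, h2⟩ := BN.grow_spec R (fun T => Nat.beq (Nat.land T (BN.ival 0 D.n)) (BN.ival 0 D.n)) D.UniqAt prog
    (fun u _ j hu hj i hi hr => by
      have c := Cmp.ev h u
      exact (ev R.p u).injective (hu (c.2.1 j hj).1 _ (c.2.1 i hi).1 (D.eqv.trans (D.eqv.symm (c.2.1 i hi).2)
        (D.eqv.trans (D.inv _ c.1 _ _ hr) (c.2.1 j hj).2)))) S fun j _ hj => hS j hj
  rw [h1] at hg
  intro j hj
  have h3 := congrArg (fun x => x.testBit j) (Nat.eq_of_beq_eq_true hg)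
  have h4 : (BN.ival 0 D.n).testBit j = true := (BN.ival_spec _ _ _).2 (by omega)
  have h5 : (T &&& BN.ival 0 D.n).testBit j = true := h3.trans h4
  rw [Nat.testBit_and, Bool.and_eq_true] at h5
  exact h2 j (by omega) h5.1 hj

end AD

/-- the network fixes the points from `n` on -/
noncomputable def outOK (lg N n : ℕ) (t : BN.Net) : Bool :=
  (fun Q => BN.app N lg (fun Y => Nat.beq Y Q) t Q)
    (BN.cat N (fun i => Nat.land (BN.plane i lg) (BN.ival n (Nat.sub N n))) lg)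

theorem outOK_spec {lg N n : ℕ} {t : BN.Net} (hN : N = 2 ^ lg) (ht : t.ok N = true)
    (h : outOK lg N n t = true) : (∀ j, n ≤ j → t.perm j = j) ∧ ∀ j < n, t.perm j < n := by
  have key : ∀ j, n ≤ j → t.perm j = j := by
    intro j hj
    by_cases hj2 : j < N
    swap
    · exact BN.perm_ge ht (by omega)
    unfold outOK at h
    set Q := BN.cat N (fun i => Nat.land (BN.plane i lg) (BN.ival n (Nat.sub N n))) lg with hQ
    obtain ⟨Y, h1, h2⟩ := BN.app_spec (w := lg) (fun Y => Nat.beq Y Q) t ht Q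
    simp only [h1] at h
    obtain rfl := Nat.eq_of_beq_eq_true h
    have hb : ∀ i j, (Nat.land (BN.plane i lg) (BN.ival n (Nat.sub N n))).testBit j =
        (decide (n ≤ j ∧ j < N) && j.testBit i) := by
      intro i j
      have e : (BN.ival n (Nat.sub N n)).testBit j = decide (n ≤ j ∧ j < n + (N - n)) := by
        rw [Bool.eq_iff_iff, BN.ival_spec, decide_eq_true_iff]; rfl
      show (BN.plane i lg &&& _).testBit j = _
      rw [Nat.testBit_and, BN.plane_spec, e, ← hN]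
      by_cases h1 : n ≤ j <;> by_cases h2 : j < N <;> simp [h1, h2]
      intro; omega
    have hc : ∀ k < lg, ∀ j < N, Q.testBit ((lg - 1 - k) * N + j) = (decide (n ≤ j) && j.testBit k) := by
      intro k hk j hj
      rw [hQ, BN.cat_spec lg (fun i _ j h => by rw [hb] at h; simp at h; exact h.1.2) _ _ hj, hb,
        show lg - 1 - (lg - 1 - k) = k by omega]
      have : lg - 1 - k < lg := by omega
      simp [this, hj]
    have hp := BN.perm_lt ht hj2
    have h3 : ∀ k, j.testBit k = (decide (n ≤ t.perm j) && (t.perm j).testBit k) := by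
      intro k
      by_cases hk : k < lg
      · have := h2 (lg - 1 - k) (by omega) j hj2
        rw [hc k hk _ hj2, hc k hk _ hp] at this
        simpa [hj] using this
      · have h4 := Nat.pow_le_pow_right (show 0 < 2 by omega) (Nat.le_of_not_lt hk)
        rw [Nat.testBit_lt_two_pow (by omega), Nat.testBit_lt_two_pow (by omega)]; simp
    by_cases h5 : n ≤ t.perm j
    · exact Nat.eq_of_testBit_eq fun k => by rw [h3 k]; simp [h5]
    · have : j = 0 := Nat.eq_of_testBit_eq fun k => by rw [h3 k]; simp [h5]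
      omega
  refine ⟨key, fun j hj => ?_⟩
  by_contra hc
  have := t.perm.injective (key _ (Nat.le_of_not_lt hc))
  omega

structure AM {G X : Type} [Group G] [MulAction G X] (D : AD G X) (H : Type) [Group H] extends Model H where
  ρ : H →* G
  inj : D.Inj
  cmp : ∀ k, D.Cmp (ρ k) (φ k)

namespace AM
variable {G X : Type} [Group G] [MulAction G X] {D : AD G X} {H : Type} [Group H]

noncomputable def of (hI : D.Inj) (R : BN.Rep) (ρ : H →* G) (hρ : ∀ k, ρ k ∈ D.SS) (g : ℕ → H)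
    (hg : ∀ x, D.Cmp (ρ (g x)) (R.p x)) : AM D H where
  g := g
  R := R
  φ := (AD.φS hI).comp (ρ.codRestrict _ hρ)
  hφ x := (AD.cmp_φS hI ⟨_, hρ (g x)⟩).uniq hI (hg x)
  ρ := ρ
  inj := hI
  cmp k := AD.cmp_φS hI ⟨_, hρ k⟩

noncomputable def sub (hI : D.Inj) (R : BN.Rep) (g : ℕ → G) (hg : ∀ x, D.Cmp (g x) (R.p x)) (K : Subgroup G)
    (hK : ∀ x, g x ∈ K) (h : K ≤ D.SS) : AM D K :=
  of hI R K.subtype (fun k => h k.2) (fun x => ⟨g x, hK x⟩) hg

noncomputable def low (hI : D.Inj) (R : BN.Rep) (g : ℕ → G) (hg : ∀ x, D.Cmp (g x) (R.p x)) (K : Subgroup G)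
    (hK : ∀ x, g x ∈ K) : AM D ↥(K ⊓ D.SS) :=
  sub hI R g hg _ (fun x => ⟨hK x, _, hg x⟩) inf_le_right

variable (m : AM D H)

theorem φ_lt (k : H) {j : ℕ} (hj : j < D.n) : m.φ k j < D.n := ((m.cmp k).2.1 j hj).1

theorem rel (k : H) {j : ℕ} (hj : j < D.n) : D.r (m.ρ k • D.p j) (D.p (m.φ k j)) := ((m.cmp k).2.1 j hj).2

theorem rel' (k : H) {j : ℕ} (hj : j < D.n) {a : X} (h : D.r a (D.p j)) : D.r (m.ρ k • a) (D.p (m.φ k j)) :=
  D.eqv.trans (D.inv _ (m.cmp k).1 _ _ h) (m.rel k hj)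

theorem φ_eq_iff (k : H) {i j : ℕ} (hi : i < D.n) (hj : j < D.n) {a b : X} (ha : D.r a (D.p i))
    (hb : D.r b (D.p j)) : m.φ k i = j ↔ D.r (m.ρ k • a) b :=
  ⟨fun h => D.eqv.trans (h ▸ m.rel' k hi ha) (D.eqv.symm hb),
    fun h => m.inj j hj _ (m.φ_lt k hi) (D.eqv.trans (D.eqv.symm (m.rel' k hi ha)) (D.eqv.trans h hb))⟩

theorem mem_ker {k : H} : m.φ k = 1 ↔ ∀ j < D.n, D.r (m.ρ k • D.p j) (D.p j) := by
  constructor
  · intro h j hj
    have := m.rel k hj
    rwa [h] at this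
  · intro h
    exact (m.cmp k).uniq m.inj ⟨(m.cmp k).1, fun j hj => ⟨hj, h j hj⟩, fun _ _ => rfl⟩

include m in
theorem card_le {T : Set ℕ} (hT : ∀ j ∈ T, j < D.n) {A : Set X} (hA : A.Finite)
    (h : ∀ j ∈ T, ∃ a ∈ A, D.r a (D.p j)) : T.ncard ≤ A.ncard := by
  classical
  refine Set.ncard_le_ncard_of_injOn (fun j => if hj : j ∈ T then (h j hj).choose else D.p 0) (fun j hj => ?_)
    (fun i hi j hj e => ?_) hA
  · rw [dif_pos hj]; exact (h j hj).choose_spec.1
  · simp only [dif_pos hi, dif_pos hj] at e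
    exact m.inj j (hT j hj) i (hT i hi)
      (D.eqv.trans (D.eqv.symm (h i hi).choose_spec.2) (e ▸ (h j hj).choose_spec.2))

theorem orb_rel {K : Subgroup H} {K' : Subgroup G} (hK : ∀ k ∈ K, m.ρ k ∈ K') {j : ℕ} (hj : j < D.n) {a : X}
    (h : D.r a (D.p j)) : ∀ i ∈ m.orb K j, i < D.n ∧ ∃ b ∈ orb K' a, D.r b (D.p i) := by
  rintro _ ⟨k, hk, rfl⟩
  exact ⟨m.φ_lt k hj, _, ⟨_, hK k hk, rfl⟩, m.rel' k hj h⟩

theorem orb_le [Finite G] {K : Subgroup H} {K' : Subgroup G} (hK : ∀ k ∈ K, m.ρ k ∈ K') {j : ℕ} (hj : j < D.n)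
    {a : X} (h : D.r a (D.p j)) : (m.orb K j).ncard ≤ (orb K' a).ncard :=
  m.card_le (fun i hi => (m.orb_rel hK hj h i hi).1) (orb_finite _ _) fun i hi => (m.orb_rel hK hj h i hi).2

theorem gen_mem {ws : List (List ℕ)} {K' : Subgroup G} (h : ∀ w ∈ ws, ∀ x ∈ w, m.ρ (m.g x) ∈ K') :
    ∀ k ∈ gen m.g ws, m.ρ k ∈ K' := fun _ hk =>
  gen_le (K := K'.comap m.ρ) (fun w hw => ev_mem_of_letters _ (h w hw)) hk

/-- transport along an isomorphism -/
noncomputable def congr {H' : Type} [Group H'] (e : H ≃* H') : AM D H' where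
  g x := e (m.g x)
  R := m.R
  φ := m.φ.comp e.symm.toMonoidHom
  hφ x := by simpa using m.hφ x
  ρ := m.ρ.comp e.symm.toMonoidHom
  inj := m.inj
  cmp k := m.cmp (e.symm k)

end AM

theorem le_of_card_inf {G : Type*} [Group G] [Finite G] {K S : Subgroup G} (h : Nat.card K ≤ Nat.card ↥(K ⊓ S)) :
    K ≤ S := (Subgroup.eq_of_le_of_card_ge inf_le_left h).ge.trans inf_le_right

/-- model of a quotient by a subgroup of the kernel -/
noncomputable def quotM {G : Type*} [Group G] (m : Model G) (Z : Subgroup G) [Z.Normal] (h : Z ≤ m.φ.ker) :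
    Model (G ⧸ Z) where
  g x := m.g x
  R := m.R
  φ := QuotientGroup.lift Z m.φ h
  hφ x := m.hφ x

noncomputable def congrM {G G' : Type*} [Group G] [Group G'] (m : Model G) (e : G ≃* G') : Model G' where
  g x := e (m.g x)
  R := m.R
  φ := m.φ.comp e.symm.toMonoidHom
  hφ x := by simpa using m.hφ x

theorem chain_low {G : Type*} [Group G] [Finite G] (m : Model G) {L : List Model.Lev} (h : m.ChainOK L []) :
    Model.cprod L * Nat.card (m.pst (Model.cbase L [])) ≤ Nat.card G := by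
  have := m.chain_le h le_top
  rwa [Model.pst_nil, top_inf_eq, top_inf_eq, Subgroup.card_top] at this

def defsE (ds : List (List ℕ)) : ℕ → List (List ℕ × List ℕ) :=
  List.rec (motive := fun _ => ℕ → List (List ℕ × List ℕ)) (fun _ => []) (fun w _ ih k => ([k], w) :: ih (k + 1)) ds

theorem mem_of_defs {G : Type*} [Group G] {g : ℕ → G} {K : Subgroup G} (ds : List (List ℕ)) (k : ℕ)
    (h0 : ∀ x < k, g x ∈ K) (h1 : ∀ e ∈ defsE ds k, ev g e.1 = ev g e.2)
    (h2 : ((defsE ds k).all fun e => e.2.all fun y => Nat.blt y (e.1.headD 0)) = true) :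
    ∀ x < k + ds.length, g x ∈ K := by
  induction ds generalizing k with
  | nil => exact h0
  | cons w ds ih =>
    have e : defsE (w :: ds) k = ([k], w) :: defsE ds (k + 1) := rfl
    rw [e] at h1 h2
    rw [List.all_cons, Bool.and_eq_true] at h2
    rw [List.length_cons, show k + (ds.length + 1) = k + 1 + ds.length by omega]
    refine ih (k + 1) (fun x hx => ?_) (fun e he => h1 e (List.mem_cons_of_mem _ he)) h2.2
    by_cases hxk : x < k
    · exact h0 x hxk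
    · obtain rfl : x = k := by omega
      have := h1 _ List.mem_cons_self
      simp only [ev_cons, ev_nil, mul_one] at this
      rw [this]
      exact ev_mem_of_letters g fun y hy => h0 y (by simpa using List.all_eq_true.1 h2.1 y hy)

theorem top_of_defs {G : Type*} [Group G] {g : ℕ → G} (ds : List (List ℕ)) (k : ℕ)
    (h1 : ∀ e ∈ defsE ds k, ev g e.1 = ev g e.2)
    (h2 : ((defsE ds k).all fun e => e.2.all fun y => Nat.blt y (e.1.headD 0)) = true) {ws : List (List ℕ)}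
    (h3 : gen g ws = ⊤) (h4 : (ws.all fun w => w.all fun y => Nat.blt y (k + ds.length)) = true) :
    gen g (lets k) = ⊤ :=
  top_le_iff.1 (h3.ge.trans (gen_le fun w hw => ev_mem_of_letters g fun y hy =>
    mem_of_defs ds k (fun _ hx => mem_lets g hx) h1 h2 y
      (by simpa using List.all_eq_true.1 (List.all_eq_true.1 h4 w hw) y hy)))

section decomp
variable {G X T : Type*} [Group G] [MulAction G X] {K : Subgroup G} {f : X → T}

theorem ncard_split {A : Set X} (hA : A.Finite) (f : X → T) (t : T) :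
    A.ncard = {x ∈ A | f x = t}.ncard + {x ∈ A | f x ≠ t}.ncard := by
  rw [← Set.ncard_union_eq (Set.disjoint_left.2 fun x h1 h2 => h2.2 h1.2) (hA.subset fun x h => h.1)
    (hA.subset fun x h => h.1)]
  congr 1; ext x; by_cases h : f x = t <;> simp [h]

theorem decomp_aux (hf : ∀ g ∈ K, ∀ x, f (g • x) = f x) (L : List (X × ℕ)) {A : Set X} (hA : A.Finite)
    (hK : ∀ g ∈ K, ∀ x ∈ A, g • x ∈ A) (hL : ∀ z ∈ L, z.1 ∈ A ∧ z.2 ≤ (orb K z.1).ncard)
    (hn : (L.map fun z => f z.1).Nodup) : (L.map fun z => z.2).sum ≤ A.ncard ∧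
      (A.ncard ≤ (L.map fun z => z.2).sum → (∀ z ∈ L, orb K z.1 = {x ∈ A | f x = f z.1} ∧ (orb K z.1).ncard = z.2) ∧
        ∀ x ∈ A, ∃ z ∈ L, f x = f z.1) := by
  induction L generalizing A with
  | nil =>
    refine ⟨by simp, fun h => ⟨by simp, fun x hx => ?_⟩⟩
    have := (Set.ncard_pos hA).2 ⟨x, hx⟩
    simp only [List.map_nil, List.sum_nil] at h; omega
  | cons z L ih =>
    rw [List.map_cons, List.nodup_cons] at hn
    have h1 := ncard_split hA f (f z.1)
    obtain ⟨h2, h3⟩ := ih (A := {x ∈ A | f x ≠ f z.1}) (hA.subset fun x h => h.1)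
      (fun g hg x hx => ⟨hK g hg x hx.1, by rw [hf g hg]; exact hx.2⟩)
      (fun y hy => ⟨⟨(hL y (List.mem_cons_of_mem _ hy)).1, fun e => hn.1 (List.mem_map.2 ⟨y, hy, e⟩)⟩,
        (hL y (List.mem_cons_of_mem _ hy)).2⟩) hn.2
    have h4 : orb K z.1 ⊆ {x ∈ A | f x = f z.1} :=
      orb_subset (A := {x ∈ A | f x = f z.1}) (fun g hg x hx => ⟨hK g hg x hx.1, by rw [hf g hg]; exact hx.2⟩) ⟨(hL z List.mem_cons_self).1, rfl⟩
    have h5 := Set.ncard_le_ncard h4 (hA.subset fun x h => h.1)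
    have h6 := (hL z List.mem_cons_self).2
    rw [List.map_cons, List.sum_cons]
    refine ⟨by omega, fun h7 => ?_⟩
    obtain ⟨h8, h9⟩ := h3 (by omega)
    refine ⟨fun y hy => ?_, fun x hx => ?_⟩
    · rcases List.mem_cons.1 hy with rfl | hy
      · exact ⟨Set.eq_of_subset_of_ncard_le h4 (by omega) (hA.subset fun x h => h.1), by omega⟩
      · refine ⟨(h8 y hy).1.trans ?_, (h8 y hy).2⟩
        ext x
        exact ⟨fun h => ⟨h.1.1, h.2⟩, fun h => ⟨⟨h.1, fun e => hn.1 (List.mem_map.2 ⟨y, hy, h.2.symm.trans e⟩)⟩, h.2⟩⟩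
    · by_cases e : f x = f z.1
      · exact ⟨z, List.mem_cons_self, e⟩
      · obtain ⟨y, hy, e⟩ := h9 x ⟨hx, e⟩
        exact ⟨y, List.mem_cons_of_mem _ hy, e⟩

/-- orbits separated by an invariant and exhausting the set -/
theorem decomp (hf : ∀ g ∈ K, ∀ x, f (g • x) = f x) (L : List (X × ℕ)) {A : Set X} (hA : A.Finite)
    (hK : ∀ g ∈ K, ∀ x ∈ A, g • x ∈ A) (hL : ∀ z ∈ L, z.1 ∈ A ∧ z.2 ≤ (orb K z.1).ncard)
    (hn : (L.map fun z => f z.1).Nodup) (hs : A.ncard ≤ (L.map fun z => z.2).sum) :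
    (∀ z ∈ L, orb K z.1 = {x ∈ A | f x = f z.1} ∧ (orb K z.1).ncard = z.2) ∧ ∀ x ∈ A, ∃ z ∈ L, f x = f z.1 :=
  (decomp_aux hf L hA hK hL hn).2 hs
end decomp

end H6
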