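import Cfsg.Agent.H6.MCo1.Main

/-! Order of `Co0`, simplicity of `Co1`, orbits on short vectors, orders of the stabilisers. -/

namespace H6
open Cfsg H0 H6M MulAction

theorem SS_card : MCo1.D.SS = ⊤ ∧ Nat.card Co0 = 8315553613086720000 := by
  let m := AM.low MCo1.dinj MCo1.R (gL MCo1.Ws) MCo1.cmp ⊤ fun _ => trivial
  have h1 := MCo1.low m.toModel rfl
  have hn : negC ∈ (⊤ : Subgroup Co0) ⊓ MCo1.D.SS := ⟨trivial, 1, negC_cmp _ _ _⟩
  have h2 : m.φ ⟨negC, hn⟩ = 1 := (m.cmp _).uniq m.inj (negC_cmp _ _ _)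
  have h3 : 1 < Nat.card (m.pst [276, 27506, 4601, 98279, 0]) := by
    rw [Subgroup.one_lt_card_iff_ne_bot]
    intro h
    have : (⟨negC, hn⟩ : ↥((⊤ : Subgroup Co0) ⊓ MCo1.D.SS)) ∈ m.pst [276, 27506, 4601, 98279, 0] :=
      fun b _ => by rw [h2]; rfl
    rw [h, Subgroup.mem_bot] at this
    exact negC_ne_one (congrArg Subtype.val this)
  have h4 := card_Co0_le
  have h5 : 8315553613086720000 ≤ Nat.card ↥((⊤ : Subgroup Co0) ⊓ MCo1.D.SS) :=
    le_trans (Nat.mul_le_mul_left 4157776806543360000 h3) h1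
  have h6 := Subgroup.card_le_of_le (inf_le_left : (⊤ : Subgroup Co0) ⊓ MCo1.D.SS ≤ ⊤)
  rw [Subgroup.card_top] at h6
  exact ⟨top_le_iff.1 (le_of_card_inf (by rw [Subgroup.card_top]; omega)), by omega⟩

theorem card_Co0 : Nat.card Co0 = 8315553613086720000 := SS_card.2

noncomputable def mC : AM MCo1.D Co0 :=
  AM.of MCo1.dinj MCo1.R (MonoidHom.id _) (fun _ => SS_card.1 ▸ trivial) (gL MCo1.Ws) MCo1.cmp

theorem center_le_ker : Subgroup.center Co0 ≤ mC.φ.ker := fun z hz => by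
  rcases mem_center_iff.1 hz with rfl | rfl
  · exact one_mem _
  · exact (mC.cmp _).uniq mC.inj (negC_cmp _ _ _)

theorem card_Co1 : Nat.card Spor.Co1 = 4157776806543360000 := by
  have := Subgroup.card_eq_card_quotient_mul_card_subgroup (Subgroup.center Co0)
  rw [card_Co0, card_center] at this
  show Nat.card (Co0 ⧸ Subgroup.center Co0) = _
  omega

/-- the model of `Co1` on 98280 points -/
noncomputable def PCo1 : MC Spor.Co1 MCo1.R 4157776806543360000 := ⟨quotM mC.toModel _ center_le_ker, rfl, card_Co1⟩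

theorem simple_Co1 : IsSimpleGroup Spor.Co1 := MCo1.simple PCo1

theorem ker_mC : mC.φ.ker = Subgroup.center Co0 :=
  le_antisymm (fun k hk => (QuotientGroup.eq_one_iff k).1 (MCo1.inj PCo1 (hk.trans (map_one _).symm))) center_le_ker

noncomputable def dEq (s t : ℕ) (z : ℤ) : Bool := decide ((dN s t : ℤ) = z + 393216)

theorem dot_of {s t : ℕ} {z : ℤ} (h : dEq s t z = true) {a b : LL} (ha : (a : Vec) = vz s) (hb : (b : Vec) = vz t) :
    dotInt (a : Vec) (b : Vec) = z := by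
  have h1 := of_decide_eq_true h
  rw [dN_eq] at h1
  rw [ha, hb]; omega

theorem sq_of {s : ℕ} {z : ℤ} (h : dEq s s z = true) {a : LL} (ha : (a : Vec) = vz s) : sqNorm (a : Vec) = z :=
  (dot_self _).symm.trans (dot_of h ha ha)

theorem two_le_orb {K : Subgroup Co0} (hn : negC ∈ K) {a : LL} (h : a ≠ 0) : 2 ≤ (orb K a).ncard := by
  rw [← Set.ncard_pair (neg_ne h)]
  refine Set.ncard_le_ncard ?_ (orb_finite _ _)
  rintro _ (rfl | rfl)
  exacts [⟨_, hn, rfl⟩, self_mem_orb _ _]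

theorem orb2 {ws : List (List ℕ)} {d j t : ℕ} (h : d ≤ (mC.orb (gen mC.g ws) j).ncard) {K : Subgroup Co0}
    (hn : negC ∈ K) (hK : ∀ w ∈ ws, ∀ x ∈ w, gL MCo1.Ws x ∈ K) (hp : ptOK 0 131072 98280 MCo1.PT t j = true)
    (h32 : dEq t t 32 = true) : vL t ∈ minV ∧ 2 * d ≤ (orb K (vL t)).ncard := by
  have h1 := sq_of h32 (ptOK_vL hp)
  obtain ⟨h2, h3⟩ := ptOK_spec hp (ptOK_vL hp)
  exact ⟨h1, (Nat.mul_le_mul_left 2 h).trans (orb_le2 mC (mC.gen_mem hK) hn h2 (ne_zero_of_sq h1 (by decide)) h3)⟩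

abbrev lU : LL := Spor.leechU
abbrev lV : LL := Spor.leechV
abbrev lU' : LL := Spor.leechU'

theorem sq_U : sqNorm (lU : Vec) = 32 := sq_of (by decide +kernel) leechU_eq
theorem sq_V : sqNorm (lV : Vec) = 48 := sq_of (by decide +kernel) leechV_eq
theorem sq_U' : sqNorm (lU' : Vec) = 32 := sq_of (by decide +kernel) leechU'_eq
theorem dot_VU : dotInt (lV : Vec) (lU : Vec) = -24 := dot_of (by decide +kernel) leechV_eq leechU_eq
theorem dot_VU' : dotInt (lV : Vec) (lU' : Vec) = -16 := dot_of (by decide +kernel) leechV_eq leechU'_eq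
theorem dot_UU' : dotInt (lU : Vec) (lU' : Vec) = 0 := dot_of (by decide +kernel) leechU_eq leechU'_eq

theorem ncard_minV : minV.ncard = 196560 := ncardL_32

theorem orb_min {v : LL} (hv : v ∈ minV) : orb (⊤ : Subgroup Co0) v = minV := by
  obtain ⟨h1, h2⟩ := orb2 (MCo1.oU mC.toModel rfl) (K := ⊤) trivial (fun _ _ _ _ => trivial) MCo1.ptU
    (by decide +kernel)
  have h3 := orb_eq (K := ⊤) (finite_sqL 32) (fun g _ _ => minV_inv g) h1 (ncard_minV.trans_le h2)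
  exact (orb_eq_of_mem (h3.ge hv)).trans h3

theorem trans_32 {v w : LL} (hv : v ∈ minV) (hw : w ∈ minV) : ∃ g : Co0, g • v = w := by
  obtain ⟨g, -, h⟩ := (orb_min hv).ge hw
  exact ⟨g, h⟩

theorem card_stab_of {v : LL} {d e : ℕ} (h : (orb (⊤ : Subgroup Co0) v).ncard = d) (he : 8315553613086720000 = d * e)
    (hd : d ≠ 0) : Nat.card (stabilizer Co0 v) = e := by
  have := card_orb_top (G := Co0) v
  rw [card_Co0, h, he] at this
  exact (Nat.eq_of_mul_eq_mul_left (Nat.pos_of_ne_zero hd) this).symm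

theorem card_stab_min {v : LL} (hv : v ∈ minV) : Nat.card (stabilizer Co0 v) = 42305421312000 :=
  card_stab_of (by rw [orb_min hv, ncard_minV]) (by norm_num) (by decide)

/-- the facts about the vectors with a given product with `a` -/
def PM (a : LL) (t : ℤ) (d : ℕ) : Prop :=
  {x ∈ minV | |dotInt (a : Vec) (x : Vec)| = t}.ncard = 2 * d ∧
  (∀ x ∈ minV, ∀ y ∈ minV, |dotInt (a : Vec) (x : Vec)| = t → dotInt (a : Vec) (y : Vec) = dotInt (a : Vec) (x : Vec) →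
    ∃ g : Co0, g • a = a ∧ (g • x = y ∨ (g • x = -y ∧ dotInt (a : Vec) (x : Vec) = 0))) ∧
  ∀ s : ℤ, s ≠ 0 → |s| = t → {x ∈ minV | dotInt (a : Vec) (x : Vec) = s}.ncard = d

theorem dot_inv (g : Co0) (a x : LL) :
    dotInt ((g • a : LL) : Vec) (x : Vec) = dotInt (a : Vec) ((g⁻¹ • x : LL) : Vec) := by
  rw [← dot_smulL g a, smul_inv_smul]

theorem minV_iff (g : Co0) {x : LL} : g • x ∈ minV ↔ x ∈ minV := by
  simp only [minV, Set.mem_ofPred_eq, sq_smulL]

theorem PM.smul {a : LL} {t : ℤ} {d : ℕ} (h : PM a t d) (g : Co0) : PM (g • a) t d := by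
  refine ⟨?_, fun x hx y hy h1 h2 => ?_, fun s hs h1 => ?_⟩
  · rw [← h.1]
    exact ncard_transport g fun x => by simp only [Set.mem_ofPred_eq, minV_iff, dot_smulL]
  · simp only [dot_inv] at h1 h2 ⊢
    obtain ⟨k, h3, h4⟩ := h.2.1 _ (minV_inv g⁻¹ hx) _ (minV_inv g⁻¹ hy) h1 h2
    refine ⟨g * k * g⁻¹, by simp [mul_smul, h3], ?_⟩
    rcases h4 with h4 | h4
    · left; simp [mul_smul, h4]
    · right; exact ⟨by simp [mul_smul, h4.1], h4.2⟩
  · rw [← h.2.2 s hs h1]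
    exact ncard_transport g fun x => by simp only [Set.mem_ofPred_eq, minV_iff, dot_smulL]

theorem PM.trans {a : LL} {t : ℤ} {d : ℕ} (h : PM a t d) {s : ℤ} (hs : s ≠ 0) (ht : |s| = t) {x y : LL}
    (hx : x ∈ minV) (hy : y ∈ minV) (h1 : dotInt (a : Vec) (x : Vec) = s) (h2 : dotInt (a : Vec) (y : Vec) = s) :
    ∃ g : Co0, g • a = a ∧ g • x = y := by
  obtain ⟨g, h3, h4 | h4⟩ := h.2.1 x hx y hy (h1 ▸ ht) (h2.trans h1.symm)
  exacts [⟨g, h3, h4⟩, absurd (h1.symm.trans h4.2) hs]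

theorem PM.orb {a : LL} {t : ℤ} {d : ℕ} (h : PM a t d) {s : ℤ} (hs : s ≠ 0) (ht : |s| = t) {x : LL}
    (hx : x ∈ minV) (h1 : dotInt (a : Vec) (x : Vec) = s) :
    orb (stabilizer Co0 a) x = {y ∈ minV | dotInt (a : Vec) (y : Vec) = s} := by
  ext y
  constructor
  · rintro ⟨g, hg, rfl⟩
    refine ⟨minV_inv g hx, ?_⟩
    conv_lhs => rw [← mem_stabilizer_iff.1 hg, dot_smulL, h1]
  · rintro ⟨h2, h3⟩
    exact h.trans hs ht hx h2 h1 h3

theorem PM.card {a : LL} {t : ℤ} {d : ℕ} (h : PM a t d) {s : ℤ} (hs : s ≠ 0) (ht : |s| = t) {x : LL}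
    (hx : x ∈ minV) (h1 : dotInt (a : Vec) (x : Vec) = s) :
    Nat.card (stabilizer Co0 a) = d * Nat.card ↥(stabilizer Co0 a ⊓ stabilizer Co0 x) := by
  rw [card_orb _ x, h.orb hs ht hx h1, h.2.2 s hs ht]

theorem fix_pm {xs : List ℕ} {t : ℕ} (h : fixA MCo1.Ws xs t = true) {a : LL} (ha : (a : Vec) = vz t) :
    ∀ w ∈ xs.map fun x => [x], ∀ x ∈ w, gL MCo1.Ws x ∈ pmS a := by
  intro w hw x hx
  obtain ⟨y, hy, rfl⟩ := List.mem_map.1 hw
  obtain rfl : x = y := by simpa using hx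
  exact stab_le_pmS a (fixA_spec MCo1.good.isA h ha x hy)

theorem PM_U : PM lU 16 4600 ∧ PM lU 8 47104 ∧ PM lU 0 46575 := by
  have hf := fix_pm MCo1.f2 leechU_eq
  have d1 := dot_of (z := 16) (by decide +kernel) leechU_eq (ptOK_vL MCo1.ptA16)
  have d2 := dot_of (z := 8) (by decide +kernel) leechU_eq (ptOK_vL MCo1.ptUV)
  have d3 := dot_of (z := 0) (by decide +kernel) leechU_eq (ptOK_vL MCo1.ptA0)
  have := pm_decomp lU [(lU, 1), (vL MCo1.tA16, 4600), (vL MCo1.tUV, 47104), (vL MCo1.tA0, 46575)] (by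
    simp only [List.forall_mem_cons, List.not_mem_nil, false_imp_iff, implies_true, and_true]
    exact ⟨⟨sq_U, two_le_orb (negC_pmS _) (ne_zero_of_sq sq_U (by decide))⟩,
      orb2 (MCo1.oA16 mC.toModel rfl) (negC_pmS _) hf MCo1.ptA16 (by decide +kernel),
      orb2 (MCo1.oUV mC.toModel rfl) (negC_pmS _) hf MCo1.ptUV (by decide +kernel),
      orb2 (MCo1.oA0 mC.toModel rfl) (negC_pmS _) hf MCo1.ptA0 (by decide +kernel)⟩)
    (by simp only [List.map_cons, List.map_nil, d1, d2, d3, dot_self, sq_U]; decide) (by decide)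
  simp only [List.forall_mem_cons, d1, d2, d3] at this
  exact ⟨this.2.1, this.2.2.1, this.2.2.2.1⟩

theorem PM_min {v : LL} (hv : v ∈ minV) : PM v 16 4600 ∧ PM v 8 47104 ∧ PM v 0 46575 := by
  obtain ⟨g, rfl⟩ := trans_32 sq_U hv
  exact ⟨PM_U.1.smul g, PM_U.2.1.smul g, PM_U.2.2.smul g⟩

theorem PM_V : PM lV 24 552 ∧ PM lV 16 11178 ∧ PM lV 8 48600 ∧ PM lV 0 37950 := by
  have hf := fix_pm MCo1.f3 leechV_eq
  have d1 := dot_of (z := -24) (by decide +kernel) leechV_eq (ptOK_vL MCo1.ptB24)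
  have d2 := dot_of (z := -16) (by decide +kernel) leechV_eq (ptOK_vL MCo1.ptB16)
  have d3 := dot_of (z := 8) (by decide +kernel) leechV_eq (ptOK_vL MCo1.ptB8)
  have d4 := dot_of (z := 0) (by decide +kernel) leechV_eq (ptOK_vL MCo1.ptB0)
  have := pm_decomp lV [(vL MCo1.tB24, 552), (vL MCo1.tB16, 11178), (vL MCo1.tB8, 48600), (vL MCo1.tB0, 37950)] (by
    simp only [List.forall_mem_cons, List.not_mem_nil, false_imp_iff, implies_true, and_true]
    exact ⟨orb2 (MCo1.oB24 mC.toModel rfl) (negC_pmS _) hf MCo1.ptB24 (by decide +kernel),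
      orb2 (MCo1.oB16 mC.toModel rfl) (negC_pmS _) hf MCo1.ptB16 (by decide +kernel),
      orb2 (MCo1.oB8 mC.toModel rfl) (negC_pmS _) hf MCo1.ptB8 (by decide +kernel),
      orb2 (MCo1.oB0 mC.toModel rfl) (negC_pmS _) hf MCo1.ptB0 (by decide +kernel)⟩)
    (by simp only [List.map_cons, List.map_nil, d1, d2, d3, d4]; decide) (by decide)
  simp only [List.forall_mem_cons, d1, d2, d3, d4] at this
  exact ⟨this.1, this.2.1, this.2.2.1, this.2.2.2.1⟩

theorem card_stab_8 {v w : LL} (hv : v ∈ minV) (hw : w ∈ minV) {s : ℤ} (hs : |s| = 8)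
    (h : dotInt (v : Vec) (w : Vec) = s) : Nat.card ↥(stabilizer Co0 v ⊓ stabilizer Co0 w) = 898128000 := by
  have := (PM_min hv).2.1.card (by rintro rfl; simp at hs) hs hw h
  rw [card_stab_min hv] at this
  omega

theorem card_stab_16 {v w : LL} (hv : v ∈ minV) (hw : w ∈ minV) {s : ℤ} (hs : |s| = 16)
    (h : dotInt (v : Vec) (w : Vec) = s) : Nat.card ↥(stabilizer Co0 v ⊓ stabilizer Co0 w) = 9196830720 := by
  have := (PM_min hv).1.card (by rintro rfl; simp at hs) hs hw h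
  rw [card_stab_min hv] at this
  omega

theorem stab_add (a b : LL) : stabilizer Co0 a ⊓ stabilizer Co0 (a + b) = stabilizer Co0 a ⊓ stabilizer Co0 b := by
  ext g
  simp only [Subgroup.mem_inf, mem_stabilizer_iff, smul_add]
  exact and_congr_right fun h => by rw [h, add_right_inj]

theorem stab_neg (a : LL) : stabilizer Co0 (-a) = stabilizer Co0 a := by
  ext g; simp only [mem_stabilizer_iff, smul_neg, neg_inj]

theorem UV_min : lU + lV ∈ minV := by
  show sqNorm ((lU : Vec) + (lV : Vec)) = 32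
  rw [sq_add, sq_U, sq_V, dot_comm, dot_VU]; rfl

theorem dot_U_UV : dotInt (lU : Vec) ((lU + lV : LL) : Vec) = 8 := by
  rw [AddSubgroup.coe_add, dot_add', dot_self, sq_U, dot_comm, dot_VU]; rfl

theorem card_stab_VU : Nat.card ↥(stabilizer Co0 lV ⊓ stabilizer Co0 lU) = 898128000 := by
  rw [inf_comm, ← stab_add]
  exact card_stab_8 sq_U UV_min (by decide) dot_U_UV

theorem card_stab_V : Nat.card (stabilizer Co0 lV) = 495766656000 := by
  rw [PM_V.1.card (by decide) (by decide) sq_U dot_VU, card_stab_VU]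

theorem card_stab_VU' : Nat.card ↥(stabilizer Co0 lV ⊓ stabilizer Co0 lU') = 44352000 := by
  have := PM_V.2.1.card (by decide) (by decide) sq_U' dot_VU'
  rw [card_stab_V] at this
  omega

theorem trans_48 {v w : LL} (hv : sqNorm (v : Vec) = 48) (hw : sqNorm (w : Vec) = 48) : ∃ g : Co0, g • v = w := by
  have h1 := card_orb_top (G := Co0) lV
  rw [card_Co0, card_stab_V] at h1
  have h2 := orb_eq (K := (⊤ : Subgroup Co0)) (finite_sqL 48) (fun g _ b hb => (sq_smulL g b).trans hb) sq_V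
    (by rw [ncardL_48]; omega)
  obtain ⟨g, -, h⟩ := orb_trans (h2.ge hv) (h2.ge hw)
  exact ⟨g, h⟩

theorem PM_48 {v : LL} (hv : sqNorm (v : Vec) = 48) :
    PM v 24 552 ∧ PM v 16 11178 ∧ PM v 8 48600 ∧ PM v 0 37950 := by
  obtain ⟨g, rfl⟩ := trans_48 sq_V hv
  exact ⟨PM_V.1.smul g, PM_V.2.1.smul g, PM_V.2.2.1.smul g, PM_V.2.2.2.smul g⟩

/-- pairs of a vector of norm 48 and a minimal vector -/
theorem trans_pair {v x w y : LL} (hv : sqNorm (v : Vec) = 48) (hw : sqNorm (w : Vec) = 48) (hx : x ∈ minV)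
    (hy : y ∈ minV) {s : ℤ} (hs : |s| = 24 ∨ |s| = 16 ∨ |s| = 8) (h1 : dotInt (v : Vec) (x : Vec) = s)
    (h2 : dotInt (w : Vec) (y : Vec) = s) : ∃ g : Co0, g • v = w ∧ g • x = y := by
  obtain ⟨g, rfl⟩ := trans_48 hv hw
  have h0 : s ≠ 0 := by rintro rfl; simp at hs
  have h3 := (dot_smulL g v x).trans h1
  obtain ⟨k, h4, h5⟩ : ∃ k : Co0, k • g • v = g • v ∧ k • g • x = y := by
    rcases hs with h | h | h
    · exact (PM_48 hw).1.trans h0 h (minV_inv g hx) hy h3 h2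
    · exact (PM_48 hw).2.1.trans h0 h (minV_inv g hx) hy h3 h2
    · exact (PM_48 hw).2.2.1.trans h0 h (minV_inv g hx) hy h3 h2
  exact ⟨k * g, by rw [mul_smul, h4], by rw [mul_smul, h5]⟩

/-- pairs of minimal vectors -/
theorem trans_pair2 {v x w y : LL} (hv : v ∈ minV) (hw : w ∈ minV) (hx : x ∈ minV)
    (hy : y ∈ minV) {s : ℤ} (hs : |s| = 16 ∨ |s| = 8) (h1 : dotInt (v : Vec) (x : Vec) = s)
    (h2 : dotInt (w : Vec) (y : Vec) = s) : ∃ g : Co0, g • v = w ∧ g • x = y := by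
  obtain ⟨g, rfl⟩ := trans_32 hv hw
  have h0 : s ≠ 0 := by rintro rfl; simp at hs
  have h3 := (dot_smulL g v x).trans h1
  obtain ⟨k, h4, h5⟩ : ∃ k : Co0, k • g • v = g • v ∧ k • g • x = y := by
    rcases hs with h | h
    · exact (PM_min hw).1.trans h0 h (minV_inv g hx) hy h3 h2
    · exact (PM_min hw).2.1.trans h0 h (minV_inv g hx) hy h3 h2
  exact ⟨k * g, by rw [mul_smul, h4], by rw [mul_smul, h5]⟩

/-! ### the named subgroups -/

noncomputable def subIso (K : Subgroup Co0) (L : Subgroup (Equiv.Perm LL)) (h1 : L ≤ Co0)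
    (h2 : ∀ g : Co0, g ∈ K ↔ g.1 ∈ L) : K ≃* L :=
  (MulEquiv.subgroupCongr (Subgroup.ext fun g => (h2 g).trans Subgroup.mem_subgroupOf.symm)).trans
    (Subgroup.subgroupOfEquivOfLe h1)

noncomputable def isoCo2 : stabilizer Co0 lU ≃* Spor.Co2 :=
  subIso _ _ inf_le_left fun g => ⟨fun h => ⟨g.2, h⟩, fun h => h.2⟩
noncomputable def isoCo3 : stabilizer Co0 lV ≃* Spor.Co3 :=
  subIso _ _ inf_le_left fun g => ⟨fun h => ⟨g.2, h⟩, fun h => h.2⟩
noncomputable def isoMcL : ↥(stabilizer Co0 lV ⊓ stabilizer Co0 lU) ≃* Spor.McL :=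
  subIso _ _ (inf_le_left.trans inf_le_left) fun g => ⟨fun h => ⟨⟨g.2, h.1⟩, h.2⟩, fun h => ⟨h.1.2, h.2⟩⟩
noncomputable def isoHS : ↥(stabilizer Co0 lV ⊓ stabilizer Co0 lU') ≃* Spor.HS :=
  subIso _ _ (inf_le_left.trans inf_le_left) fun g => ⟨fun h => ⟨⟨g.2, h.1⟩, h.2⟩, fun h => ⟨h.1.2, h.2⟩⟩

/-- a model of a subgroup of known order -/
noncomputable def subAM {D : AD Co0 LL} (hI : D.Inj) (R : BN.Rep) (g : ℕ → Co0) (hg : ∀ x, D.Cmp (g x) (R.p x))
    (K : Subgroup Co0) (hK : ∀ x, g x ∈ K) {c : ℕ} (hc : Nat.card K = c) {bs : List ℕ}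
    (low : ∀ {G : Type} [Group G] [Finite G] (m0 : Model G), m0.R = R → c * Nat.card (m0.pst bs) ≤ Nat.card G) :
    AM D K :=
  AM.sub hI R g hg K hK (le_of_card_inf (hc.trans_le ((Nat.le_mul_of_pos_right _ Nat.card_pos).trans
    (low (AM.low hI R g hg K hK).toModel rfl))))

end H6
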