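import Cfsg.Agent.H6.Co1
import Cfsg.Agent.H6.MCo2.Main
import Cfsg.Agent.H6.MCo3.Main
import Cfsg.Agent.H6.MMcL.Main
import Cfsg.Agent.H6.MHS.Main
import Cfsg.Agent.H6.MHSb.Main

/-! Models of `Co2`, `Co3`, `McL`, `HS` of small degree; simplicity. -/

namespace H6
open Cfsg H0 H6M MulAction

noncomputable def aCo2 : AM MCo2.D (stabilizer Co0 lU) :=
  subAM MCo2.dinj MCo2.R _ MCo2.cmp _ (fix_all MCo2.good.isA MCo2.fU leechU_eq) (card_stab_min sq_U) MCo2.low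
noncomputable def aCo3 : AM MCo3.D (stabilizer Co0 lV) :=
  subAM MCo3.dinj MCo3.R _ MCo3.cmp _ (fix_all MCo3.good.isA MCo3.fV leechV_eq) card_stab_V MCo3.low
noncomputable def aMcL : AM MMcL.D ↥(stabilizer Co0 lV ⊓ stabilizer Co0 lU) :=
  subAM MMcL.dinj MMcL.R _ MMcL.cmp _
    (fun x => ⟨fix_all MMcL.good.isA MMcL.fV leechV_eq x, fix_all MMcL.good.isA MMcL.fU leechU_eq x⟩)
    card_stab_VU MMcL.low
noncomputable def aHS : AM MHS.D ↥(stabilizer Co0 lV ⊓ stabilizer Co0 lU') :=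
  subAM MHS.dinj MHS.R _ MHS.cmp _
    (fun x => ⟨fix_all MHS.good.isA MHS.fV leechV_eq x, fix_all MHS.good.isA MHS.fU leechU'_eq x⟩)
    card_stab_VU' MHS.low
noncomputable def aHSb : AM MHSb.D ↥(stabilizer Co0 lV ⊓ stabilizer Co0 lU') :=
  subAM MHSb.dinj MHSb.R _ MHSb.cmp _
    (fun x => ⟨fix_all MHSb.good.isA MHSb.fV leechV_eq x, fix_all MHSb.good.isA MHSb.fU leechU'_eq x⟩)
    card_stab_VU' MHSb.low

noncomputable def qCo2 : MC (stabilizer Co0 lU) MCo2.R 42305421312000 := ⟨aCo2.toModel, rfl, card_stab_min sq_U⟩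
noncomputable def qCo3 : MC (stabilizer Co0 lV) MCo3.R 495766656000 := ⟨aCo3.toModel, rfl, card_stab_V⟩
noncomputable def qMcL : MC ↥(stabilizer Co0 lV ⊓ stabilizer Co0 lU) MMcL.R 898128000 :=
  ⟨aMcL.toModel, rfl, card_stab_VU⟩
noncomputable def qHS : MC ↥(stabilizer Co0 lV ⊓ stabilizer Co0 lU') MHS.R 44352000 :=
  ⟨aHS.toModel, rfl, card_stab_VU'⟩
noncomputable def qHSb : MC ↥(stabilizer Co0 lV ⊓ stabilizer Co0 lU') MHSb.R 44352000 :=
  ⟨aHSb.toModel, rfl, card_stab_VU'⟩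

/-- the model of `Co2` on 2300 points -/
noncomputable def PCo2 : MC Spor.Co2 MCo2.R 42305421312000 := qCo2.congr isoCo2
/-- the model of `Co3` on 276 points -/
noncomputable def PCo3 : MC Spor.Co3 MCo3.R 495766656000 := qCo3.congr isoCo3
/-- the model of `McL` on 275 points -/
noncomputable def PMcL : MC Spor.McL MMcL.R 898128000 := qMcL.congr isoMcL
/-- the model of `HS` on 100 points -/
noncomputable def PHS : MC Spor.HS MHS.R 44352000 := qHS.congr isoHS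
/-- the model of `HS` on 176 points -/
noncomputable def PHSb : MC Spor.HS MHSb.R 44352000 := qHSb.congr isoHS

theorem simple_Co2 : IsSimpleGroup Spor.Co2 := MCo2.simple PCo2
theorem simple_Co3 : IsSimpleGroup Spor.Co3 := MCo3.simple PCo3
theorem simple_McL : IsSimpleGroup Spor.McL := MMcL.simple PMcL
theorem simple_HS : IsSimpleGroup Spor.HS := MHSb.simple PHSb

theorem cj_McL {v w : LL} (hv : v ∈ minV) (hw : w ∈ minV) (h : dotInt (v : Vec) (w : Vec) = -8) :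
    ∃ g : Co0, Cj g (stabilizer Co0 lV ⊓ stabilizer Co0 lU) (stabilizer Co0 v ⊓ stabilizer Co0 w) := by
  obtain ⟨g, h1, h2⟩ := trans_pair2 sq_U hv (x := -(lU + lV)) ((sq_neg _).trans UV_min) hw (s := -8) (by decide)
    (by rw [AddSubgroup.coe_neg, dot_neg', dot_U_UV]) h
  refine ⟨g, ?_⟩
  rw [inf_comm, ← stab_add, ← stab_neg (lU + lV)]
  exact (Cj.stab' h1).inf (Cj.stab' h2)

theorem hs_min {v w : LL} (hv : sqNorm (v : Vec) = 48) (hw : sqNorm (w : Vec) = 48)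
    (h : dotInt (v : Vec) (w : Vec) = -32) :
    -(v + w) ∈ minV ∧ dotInt (v : Vec) ((-(v + w) : LL) : Vec) = -16 := by
  constructor
  · show sqNorm (-((v : Vec) + (w : Vec))) = 32
    rw [sq_neg, sq_add, hv, hw, h]; rfl
  · rw [AddSubgroup.coe_neg, dot_neg', AddSubgroup.coe_add, dot_add', dot_self, hv, h]; rfl

theorem hs_pair {v w : LL} (hv : sqNorm (v : Vec) = 48) (hw : sqNorm (w : Vec) = 48)
    (h : dotInt (v : Vec) (w : Vec) = -32) : ∃ g : Co0, g • lV = v ∧ g • lU' = -(v + w) :=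
  trans_pair sq_V hv sq_U' (hs_min hv hw h).1 (s := -16) (by decide) dot_VU' (hs_min hv hw h).2

theorem cj_HS {v w : LL} (hv : sqNorm (v : Vec) = 48) (hw : sqNorm (w : Vec) = 48)
    (h : dotInt (v : Vec) (w : Vec) = -32) :
    ∃ g : Co0, Cj g (stabilizer Co0 lV ⊓ stabilizer Co0 lU') (stabilizer Co0 v ⊓ stabilizer Co0 w) := by
  obtain ⟨g, h1, h2⟩ := hs_pair hv hw h
  refine ⟨g, ?_⟩
  rw [← stab_add v, ← stab_neg (v + w)]
  exact (Cj.stab' h1).inf (Cj.stab' h2)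

end H6
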