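import Cfsg.Agent.H6.Leech

/-! An explicit basis of the rank 24 lattice, coordinates, explicit automorphisms. -/

namespace H6
open Cfsg Finset
open scoped Pointwise

/-- the vector with code `t` -/
def vz (t : ℕ) : Vec := fun p => (lane 8 t (idx p) : ℤ) - 128

noncomputable def dN (s t : ℕ) : ℕ := sumLt 24 fun j =>
  Nat.sub (Nat.add (Nat.mul (lane 8 s j) (lane 8 t j)) 32768) (Nat.mul 128 (Nat.add (lane 8 s j) (lane 8 t j)))

theorem dN_eq (s t : ℕ) : (dN s t : ℤ) = dotInt (vz s) (vz t) + 393216 := by
  unfold dN dotInt
  rw [sumLt_eq, sum_pt, Nat.cast_sum, show (393216 : ℤ) = ∑ _j ∈ range 24, (16384 : ℤ) by simp, ← sum_add_distrib]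
  refine sum_congr rfl fun j hj => ?_
  simp only [vz, idx_pt (mem_range.1 hj)]
  have h1 : lane 8 s j < 256 := lane_lt 8 s j
  have h2 : lane 8 t j < 256 := lane_lt 8 t j
  generalize lane 8 s j = a at *
  generalize lane 8 t j = b at *
  have h3 : 128 * (a + b) ≤ a * b + 32768 := by
    zify at *
    nlinarith [mul_nonneg (show (0 : ℤ) ≤ a by omega) (show (0 : ℤ) ≤ b by omega),
      mul_nonneg (show (0 : ℤ) ≤ 256 - a by omega) (show (0 : ℤ) ≤ 256 - b by omega)]
  show ((a * b + 32768 - 128 * (a + b) : ℕ) : ℤ) = _
  rw [Nat.cast_sub h3]; push_cast; ring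

theorem dot_vz {s t : ℕ} {a : ℕ} (h : Nat.beq (dN s t) a = true) : dotInt (vz s) (vz t) = (a : ℤ) - 393216 := by
  rw [← Nat.eq_of_beq_eq_true h, dN_eq]; ring

noncomputable def cbits (t : ℕ) : ℕ := sumLt 24 fun j => Nat.mul (bit (lane 8 t j) 1) (Nat.pow 2 j)

noncomputable def isLe (t : ℕ) : Bool :=
  allLt 24 (fun j => Nat.beq (Nat.mod (lane 8 t j) 2) (Nat.mod t 2)) && isCw (cbits t) &&
    Nat.beq (Nat.mod (sumLt 24 fun j => Nat.div (lane 8 t j) 4) 2) (Nat.mod t 2)

theorem isLe_spec {t : ℕ} (h : isLe t = true) : vz t ∈ leechLattice := by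
  simp only [isLe, Bool.and_eq_true, allLt_iff, Nat.beq_eq, sumLt_eq] at h
  obtain ⟨⟨h1, h2⟩, h3⟩ := h
  have hb : ∀ j < 24, (cbits t).testBit j = (lane 8 t j).testBit 1 := by
    intro j hj
    have e : cbits t = pack 1 24 fun j => bit (lane 8 t j) 1 := by
      unfold cbits pack; rw [sumLt_eq]; simp
    have := lane_pack (w := 1) (n := 24) (f := fun j => bit (lane 8 t j) 1)
      (fun i _ => by rw [bit_eq]; split_ifs <;> simp) hj
    rw [← e, bit_eq] at this
    have h5 : lane 1 (cbits t) j = bit (cbits t) j := by
      show _ % _ = _ &&& 1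
      rw [Nat.and_one_is_mod]; simp
    rw [h5, bit_eq] at this
    revert this; cases (cbits t).testBit j <;> cases (lane 8 t j).testBit 1 <;> simp
  refine Rep.memL (m := (t % 2 : ℕ)) (c := dec (cbits t)) (y := fun p => (lane 8 t (idx p) / 4 : ℕ) - 32)
    ⟨dec_mem_CC h2, fun p => ?_, ?_⟩
  · have h4 : lane 8 t (idx p) % 2 = t % 2 := h1 _ (idx_lt p)
    simp only [vz, ind, mem_dec, hb _ (idx_lt p), Nat.testBit_eq_decide_div_mod_eq, decide_eq_true_eq]
    split_ifs <;> omega
  · have h4 : (∑ j ∈ range 24, lane 8 t j / 4) % 2 = t % 2 := h3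
    rw [sum_sub_distrib, sum_const, card_univ, card_pt, ← Nat.cast_sum, sum_pt,
      sum_congr rfl fun j hj => by rw [idx_pt (mem_range.1 hj)]]
    simp only [nsmul_eq_mul]; omega

def bT : ℕ := 0x817f817f81817f7f7f7f7d8181817f7f817f7f7f817f81817f7f7f7f7f817f7f7f7f7d7f817f7f7f81817f817f7f818180808080807e828080827e80808280807e8080808280807e7f7f7f7f7f817f817f7f7d817f7f81817f817f81818181817e7e8080808080807e7e7e808082808080807e8080808082818181817f7f818181817f7f7f837f7f7f81817f817f7f81828080807e80807e7e8082808082808080828080807e80807e7e7e7e808080807e8080808080828280807e808080808082808080808080807e807e807e8080807e808080827e807e8080808080808080827e8280808082808080807e7e807e82808080807e8080808080807e807e7e7e80828080807e808281817f7f7f817f7f817f81817f7d8181817f81817f7f7f7f81818181817f818181817f817f8181817f7f817f81817f83817f817f81817f817f817f7f817f7f7f81817f81817f81838181817f7f7f817f818181817f817f817f81817f8181817d80807e80807e8080808080807e7e82807e8080808082807e817f818181817f7f7f81818181817f8181817f818181837f7e80808282807e80807e8080807e8080807e80808080807e7f7f7f8181817f7f7f7d81818181817f81817f7f7f7f7f817f81817f7f7f817f8181817f81817f81817f7f7f7f7d7f8180808082828080828280808280808280808082808082808084808080808080808080808080808080808080808080807c7b7f7f7f7f7f7f7f7f7f7f7f7f7f7f7f7f7f7f7f7f7f7f7f848080808080808080808080808080808080808080808084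
def dT : ℕ := 0x808080807e808080808080808080827e827e807e82808280808080808280807e80807e7e80808082808282807e808080807e80808080807e82808080828080807e80808282807e80808280807e807e8280808082828080807e807e8080808080807e8280807e8280807e80807e808080828080828080808080807e8080807e808280807e7e8280808280808082808080808082807e7e7e807e808080828082808080828080808080807e7e80808080808080807e808080828280827e828080808080808082828280808080807e8080807e8080807e7e8280807e82808082807e8280807e808082807e80808080808080807e80827e80828080808080807e80808280807e82808080807e80808080807e828080807e8080808280808282807e80808082828080807e7e827e80807e80828282807e80827c808080827e827e7e8080808080808080808082808280807e808080807e827e8080807e808080807e82808282808080808080828080807e8080808080807e80827e82807e8080808280807e80828082807e828280807e80808080807e808080808080808080807e7e80807e807e82808082808082808280808080827e80828080808080808280807e8080827e8080807e8080828080807e8082808080828080808080807e807e7e8280807e8080807e80828080808280808080808082807e7e8280817f81817f7f7f817f817f81817f7f8181817f7f7f817d7f807e808080807e808082808280807e807e8080807e807e80817f7d7f817f7f81817f818181817d817d7f81817f7f8181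
def row (W j : ℕ) : ℕ := lane 192 W j

theorem bd_check : allLt 24 (fun i => isLe (row bT i) && isLe (row dT i) && allLt 24 fun j =>
    Nat.beq (dN (row bT i) (row dT j)) (Bool.rec 393216 393224 (Nat.beq i j))) = true := by decide +kernel

noncomputable def bv (p : GolayPt) : LL := ⟨vz (row bT (idx p)), isLe_spec (by
  have := allLt_iff.1 bd_check _ (idx_lt p); simp only [Bool.and_eq_true] at this; exact this.1.1)⟩
noncomputable def dv (p : GolayPt) : LL := ⟨vz (row dT (idx p)), isLe_spec (by
  have := allLt_iff.1 bd_check _ (idx_lt p); simp only [Bool.and_eq_true] at this; exact this.1.2)⟩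

theorem bd_dot (p q : GolayPt) : dotInt (bv p : Vec) (dv q : Vec) = if p = q then 8 else 0 := by
  have := allLt_iff.1 bd_check _ (idx_lt p)
  simp only [Bool.and_eq_true] at this
  have h := dot_vz (allLt_iff.1 this.2 _ (idx_lt q))
  refine h.trans ?_
  by_cases e : p = q
  · subst e; simp
  · have : Nat.beq (idx p) (idx q) = false := by
      cases h : Nat.beq (idx p) (idx q)
      · rfl
      · exact absurd (idx_inj (Nat.eq_of_beq_eq_true h)) e
    rw [this, if_neg e]; rfl

section dual
variable {b d : GolayPt → LL} (h : ∀ p q, dotInt (b p : Vec) (d q : Vec) = if p = q then 8 else 0)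
include h

theorem dual_det : (Matrix.of fun p i => (b p : Vec) i).det * (Matrix.of fun p i => (d p : Vec) i).det = 8 ^ 24 := by
  rw [← Matrix.det_transpose (Matrix.of fun p i => (d p : Vec) i), ← Matrix.det_mul]
  have : (Matrix.of fun p i => (b p : Vec) i) * (Matrix.of fun p i => (d p : Vec) i).transpose =
      (8 : ℤ) • (1 : Matrix GolayPt GolayPt ℤ) := by
    ext p q
    rw [Matrix.mul_apply, Matrix.smul_apply, Matrix.one_apply]
    refine (h p q).trans ?_
    split_ifs <;> simp
  rw [this, Matrix.det_smul, Matrix.det_one, card_pt, mul_one]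

theorem dual_expand (x : Vec) : (8 : ℤ) • x = ∑ p, dotInt x (d p : Vec) • (b p : Vec) := by
  have h2 : (Matrix.of fun p i => (d p : Vec) i).det ≠ 0 := by
    intro e
    have := dual_det h
    rw [e, mul_zero] at this
    norm_num at this
  rw [← sub_eq_zero]
  apply Matrix.eq_zero_of_mulVec_eq_zero h2
  funext q
  have : dotInt ((8 : ℤ) • x - ∑ p, dotInt x (d p : Vec) • (b p : Vec)) (d q : Vec) = 0 := by
    rw [dot_sub, dot_smul, dot_sum]
    simp only [dot_smul, h, mul_ite, mul_zero, sum_ite_eq', mem_univ, if_true]
    ring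
  rw [dot_comm] at this
  exact this

theorem dual_expandL (x : LL) : x = ∑ p, (dotInt (x : Vec) (d p : Vec) / 8) • b p := by
  apply Subtype.ext
  apply smul_right_injective Vec (show (8 : ℤ) ≠ 0 by decide)
  simp only [AddSubmonoidClass.coe_finsetSum, AddSubgroup.coe_zsmul]
  rw [dual_expand h, smul_sum]
  refine sum_congr rfl fun p _ => ?_
  rw [smul_smul, Int.mul_ediv_cancel' (dot_dvd x.2 (d p).2)]

theorem dual_coef (a : GolayPt → ℤ) (q : GolayPt) :
    dotInt ((∑ p, a p • b p : LL) : Vec) (d q : Vec) = 8 * a q := by
  simp only [AddSubmonoidClass.coe_finsetSum, AddSubgroup.coe_zsmul, dot_sum, dot_smul, h, mul_ite, mul_zero,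
    sum_ite_eq', mem_univ, if_true]
  ring

noncomputable def dualBasis : Module.Basis GolayPt ℤ LL :=
  Module.Basis.mk (v := b) (Fintype.linearIndependent_iff.2 fun a ha q => by
      have := dual_coef h a q
      rw [ha, AddSubgroup.coe_zero, dot_zero] at this
      omega)
    (fun x _ => by
      rw [dual_expandL h x]
      exact Submodule.sum_mem _ fun p _ => Submodule.smul_mem _ _ (Submodule.subset_span ⟨p, rfl⟩))

theorem dual_index : leechLattice.index = (Matrix.of fun p i => (b p : Vec) i).det.natAbs := by
  rw [AddSubgroup.index_eq_natAbs_det (Pi.basisFun ℤ GolayPt) leechLattice (dualBasis h), Module.Basis.det_apply,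
    ← Matrix.det_transpose]
  congr 2
  ext p i
  simp [Module.Basis.toMatrix_apply, dualBasis]
end dual

theorem db_dot (p q : GolayPt) : dotInt (dv p : Vec) (bv q : Vec) = if p = q then 8 else 0 := by
  rw [dot_comm, bd_dot]; simp only [eq_comm]

theorem leech_index : leechLattice.index = 2 ^ 36 := by
  have h1 := dual_index bd_dot
  have h2 := dual_index db_dot
  have h3 := congrArg Int.natAbs (dual_det bd_dot)
  rw [Int.natAbs_mul, ← h1, ← h2] at h3
  have : leechLattice.index * leechLattice.index = 2 ^ 36 * 2 ^ 36 := h3.trans (by norm_num)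
  exact Nat.mul_self_inj.1 this

/-- coordinates in the basis `bv` -/
noncomputable def co (x : Vec) (p : GolayPt) : ℤ := dotInt x (dv p : Vec) / 8

theorem expand (x : LL) : x = ∑ p, co x p • bv p := dual_expandL bd_dot x

theorem eight_co (x : LL) (p : GolayPt) : 8 * co x p = dotInt (x : Vec) (dv p : Vec) :=
  Int.mul_ediv_cancel' (dot_dvd x.2 (dv p).2)

theorem co_sum (a : GolayPt → ℤ) (q : GolayPt) : co ((∑ p, a p • bv p : LL) : Vec) q = a q := by
  unfold co; rw [dual_coef bd_dot]; omega

theorem co_add (x y : LL) (p : GolayPt) : co ((x + y : LL) : Vec) p = co x p + co y p := by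
  have h1 := eight_co (x + y) p
  rw [AddSubgroup.coe_add, dot_add, ← eight_co, ← eight_co] at h1
  rw [AddSubgroup.coe_add]; omega

noncomputable def coH (p : GolayPt) : LL →+ ℤ := AddMonoidHom.mk' (fun x => co x p) fun x y => co_add x y p

theorem co_sub (x y : LL) (p : GolayPt) : co ((x - y : LL) : Vec) p = co x p - co y p := (coH p).map_sub x y
theorem co_neg (x : LL) (p : GolayPt) : co ((-x : LL) : Vec) p = -co x p := (coH p).map_neg x
theorem co_lin {ι : Type*} (s : Finset ι) (a : ι → ℤ) (w : ι → LL) (q : GolayPt) :
    co ((∑ i ∈ s, a i • w i : LL) : Vec) q = ∑ i ∈ s, a i * co (w i) q := by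
  have := map_sum (coH q) (fun i => a i • w i) s
  simp only [map_zsmul, smul_eq_mul] at this
  exact this

theorem co_bv (p q : GolayPt) : co (bv p) q = if p = q then 1 else 0 := by
  unfold co; rw [bd_dot]; split_ifs <;> rfl

theorem mem_of_dvd {x : Vec} (h : ∀ p, (8 : ℤ) ∣ dotInt x (dv p : Vec)) : x ∈ leechLattice := by
  have : x = ((∑ p, co x p • bv p : LL) : Vec) := by
    apply smul_right_injective Vec (show (8 : ℤ) ≠ 0 by decide)
    simp only [AddSubmonoidClass.coe_finsetSum, AddSubgroup.coe_zsmul]
    rw [dual_expand bd_dot, smul_sum]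
    refine sum_congr rfl fun p _ => ?_
    rw [smul_smul, co, Int.mul_ediv_cancel' (h p)]
  rw [this]; exact Subtype.prop _

theorem eq_zero_of_dot {x : Vec} (h : ∀ p, dotInt x (bv p : Vec) = 0) : x = 0 := by
  apply smul_right_injective Vec (show (8 : ℤ) ≠ 0 by decide)
  simp only [dual_expand db_dot x, h, zero_smul, sum_const_zero, smul_zero]

theorem smul_expand (g : Co0) (x : LL) : g • x = ∑ p, co x p • g • bv p := by
  conv_lhs => rw [expand x]
  simp only [smul_sum, smul_zsmul]

theorem co0_ext_bv {g h : Co0} (e : ∀ p, g • bv p = h • bv p) : g = h :=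
  co0_ext fun v => by rw [smul_expand, smul_expand h]; simp only [e]

theorem two_iff (x : LL) : (∃ z : LL, x = z + z) ↔ ∀ p, (2 : ℤ) ∣ co x p := by
  constructor
  · rintro ⟨z, rfl⟩ p
    rw [co_add]; omega
  · intro h
    refine ⟨∑ p, (co x p / 2) • bv p, ?_⟩
    rw [← sum_add_distrib]
    conv_lhs => rw [expand x]
    refine sum_congr rfl fun p _ => ?_
    rw [← add_smul]; congr 1; have := h p; omega

/-! ### explicit automorphisms -/

noncomputable def linOf (w : GolayPt → LL) : LL →+ LL :=
  AddMonoidHom.mk' (fun x => ∑ p, co x p • w p) fun x y => by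
    rw [← sum_add_distrib]; exact sum_congr rfl fun p _ => by rw [co_add, add_smul]

theorem sq_lin (a : GolayPt → ℤ) (w : GolayPt → LL) :
    sqNorm ((∑ p, a p • w p : LL) : Vec) = ∑ p, ∑ q, a p * (a q * dotInt (w p : Vec) (w q : Vec)) := by
  rw [← dot_self]
  simp only [AddSubmonoidClass.coe_finsetSum, AddSubgroup.coe_zsmul, dot_sum, dot_sum', dot_smul, dot_smul',
    mul_sum]
  rw [sum_comm]
  exact sum_congr rfl fun p _ => sum_congr rfl fun q _ => by ring

noncomputable def mkA (w : GolayPt → LL)
    (h : ∀ p q, dotInt (w p : Vec) (w q : Vec) = dotInt (bv p : Vec) (bv q : Vec)) : Co0 :=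
  isoOf (linOf w) fun v => by
    conv_rhs => rw [expand v]
    show sqNorm ((∑ p, co v p • w p : LL) : Vec) = _
    simp only [sq_lin, h]

theorem mkA_bv (w : GolayPt → LL) (h) (p : GolayPt) : mkA w h • bv p = w p := by
  show ∑ q, co (bv p) q • w q = _
  simp [co_bv]

def gT : ℕ := 0xa0908088908080808878807880907870888088807880808890a0789090788088807890807090707880808880707890808078a0808090808090707870887890888078708080888078889080a0907878908878808080887888808080708078888090908090a0808090808080708088707880809080787090808078907880a0887088808870908088787870788880807888808080788088a0808880888078808878887088887088788880888090907080a0808078807880788880808880787890788880908880888880a0708080808088888080787878908080787870788080808070a0808888787880708090888878808880907880808888788080a0807890787878788088707888887880708070708080808880a0787880887888808080888080807088808090787880887878a0808080787878809078709090907888888080808078907880a0707088788080787878907870907870888878887878808070a0888878708080907878707888887878788888807888807088a0788878708888887888808080807888808070787878888878a0808078808870808080788080707080808078887878788880a0887888809070888870809078888878908080788070788088a0808078888080808070808888807888888080808070787880a0707888807870808078807078788870809078808880888070a0807080807888787080887890787888787890888880787880a0708080908088907878908080888070787888709088887070b0688880788080888878808888809090787880708080808068a0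

theorem g_check : allLt 24 (fun i => allLt 24 fun j =>
    Nat.beq (dN (row bT i) (row bT j)) (Nat.add 393088 (lane 8 (row gT i) j))) = true := by decide +kernel

/-- `W` lists the images of the basis, `M` the parities of their coordinates -/
noncomputable def isA (W M : ℕ) : Bool :=
  allLt 24 fun i => (allLt 24 fun q =>
    Nat.beq (Nat.mod (dN (row W i) (row dT q)) 16) (Nat.mul 8 (bit (lane 24 M q) i))) &&
    allLt (Nat.succ i) fun j => Nat.beq (dN (row W i) (row W j)) (Nat.add 393088 (lane 8 (row gT i) j))

def IsA (W : ℕ) : Prop := (∀ p, vz (row W (idx p)) ∈ leechLattice) ∧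
  ∀ p q, dotInt (vz (row W (idx p))) (vz (row W (idx q))) = dotInt (bv p : Vec) (bv q : Vec)

theorem isA_par {W M : ℕ} (h : isA W M = true) (p q : GolayPt) :
    dotInt (vz (row W (idx p))) (dv q : Vec) % 16 = if (lane 24 M (idx q)).testBit (idx p) then 8 else 0 := by
  have h1 := allLt_iff.1 h _ (idx_lt p)
  rw [Bool.and_eq_true] at h1
  have h2 : dN (row W (idx p)) (row dT (idx q)) % 16 = 8 * bit (lane 24 M (idx q)) (idx p) :=
    Nat.eq_of_beq_eq_true (allLt_iff.1 h1.1 _ (idx_lt q))
  have h3 := dN_eq (row W (idx p)) (row dT (idx q))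
  rw [bit_eq] at h2
  show dotInt _ (vz (row dT (idx q))) % 16 = _
  split_ifs at h2 ⊢ <;> omega

theorem isA_spec {W M : ℕ} (h : isA W M = true) : IsA W := by
  refine ⟨fun p => mem_of_dvd fun q => ?_, ?_⟩
  · have := isA_par h p q
    split_ifs at this <;> omega
  · have key : ∀ p q, idx q ≤ idx p → dotInt (vz (row W (idx p))) (vz (row W (idx q))) =
        dotInt (bv p : Vec) (bv q : Vec) := by
      intro p q hpq
      have h1 := allLt_iff.1 h _ (idx_lt p)
      rw [Bool.and_eq_true] at h1
      exact (dot_vz (allLt_iff.1 h1.2 _ (Nat.lt_succ_of_le hpq))).trans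
        (dot_vz (allLt_iff.1 (allLt_iff.1 g_check _ (idx_lt p)) _ (idx_lt q))).symm
    intro p q
    rcases le_total (idx q) (idx p) with h1 | h1
    · exact key p q h1
    · rw [dot_comm, key q p h1, dot_comm]

open Classical in
noncomputable def eA (W : ℕ) : Co0 := if h : IsA W then mkA (fun p => ⟨_, h.1 p⟩) h.2 else 1

theorem eA_bv {W : ℕ} (h : IsA W) (p : GolayPt) : ((eA W • bv p : LL) : Vec) = vz (row W (idx p)) := by
  rw [eA, dif_pos h, mkA_bv]

theorem eA_par {W M : ℕ} (h : isA W M = true) (p q : GolayPt) :
    co ((eA W • bv p : LL) : Vec) q % 2 = if (lane 24 M (idx q)).testBit (idx p) then 1 else 0 := by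
  have h1 := isA_par h p q
  have h2 := eight_co (eA W • bv p) q
  rw [eA_bv (isA_spec h)] at h2 ⊢
  split_ifs at h1 ⊢ <;> omega

/-- `eA W` maps the vector with code `s` to the one with code `t` -/
noncomputable def mapsA (W s t : ℕ) : Bool :=
  allLt 24 fun j => Nat.beq (dN t (row W j)) (dN s (row bT j))

theorem mapsA_spec {W s t : ℕ} (hW : IsA W) (h : mapsA W s t = true) {x y : LL} (hx : (x : Vec) = vz s)
    (hy : (y : Vec) = vz t) : eA W • x = y := by
  rw [smul_eq_iff_eq_inv_smul, ← sub_eq_zero]
  apply Subtype.ext
  apply eq_zero_of_dot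
  intro p
  have h1 := Nat.eq_of_beq_eq_true (allLt_iff.1 h _ (idx_lt p))
  have h2 := dN_eq t (row W (idx p))
  have h3 := dN_eq s (row bT (idx p))
  rw [AddSubgroup.coe_sub, dot_sub, ← dot_smulL (eA W) (_ • y), smul_inv_smul, eA_bv hW, hx, hy]
  show dotInt _ (vz (row bT (idx p))) - _ = 0
  omega

open Classical in
/-- the lattice vector with code `t` -/
noncomputable def vL (t : ℕ) : LL := if h : vz t ∈ leechLattice then ⟨_, h⟩ else 0

theorem vL_coe {t : ℕ} (h : isLe t = true) : (vL t : Vec) = vz t := by rw [vL, dif_pos (isLe_spec h)]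

def tU : ℕ := 0x848080808080808080808080808080808080808080808084
def tV : ℕ := 0x7b7f7f7f7f7f7f7f7f7f7f7f7f7f7f7f7f7f7f7f7f7f7f7f
def tU' : ℕ := 0x84808080808080808080808080808080808080808080807c

theorem leechU_eq : (Spor.leechU : Vec) = vz tU := funext (forall_pt (by decide +kernel))
theorem leechV_eq : (Spor.leechV : Vec) = vz tV := funext (forall_pt (by decide +kernel))
theorem leechU'_eq : (Spor.leechU' : Vec) = vz tU' := funext (forall_pt (by decide +kernel))
theorem bv0 : bv (pt 0) = Spor.leechU := Subtype.ext (funext (forall_pt (by decide +kernel)))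
theorem bv1 : bv (pt 1) = Spor.leechV := Subtype.ext (funext (forall_pt (by decide +kernel)))
theorem bv2 : bv (pt 2) = Spor.leechU' := Subtype.ext (funext (forall_pt (by decide +kernel)))

end H6
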