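import Cfsg.Agent.H6.Leech

/-! Counting lattice vectors of given norm by generating functions evaluated at a big number. -/

namespace H6
open Cfsg Finset
set_option maxRecDepth 100000

theorem digit_count {α : Type*} (S : Finset α) (e : α → ℕ) {W : ℕ} (hW : S.card < W) (k : ℕ) :
    (∑ x ∈ S, W ^ e x) / W ^ k % W = (S.filter fun x => e x = k).card := by
  classical
  have hW0 : 0 < W := by omega
  have h1 : ∑ x ∈ S, W ^ e x = ∑ x ∈ S.filter (fun x => e x < k), W ^ e x +
      W ^ k * ((S.filter fun x => e x = k).card + W * ∑ x ∈ S.filter (fun x => k < e x), W ^ (e x - k - 1)) := by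
    rw [mul_add, card_eq_sum_ones, mul_sum, mul_sum, mul_sum, sum_filter, sum_filter, sum_filter,
      ← sum_add_distrib, ← sum_add_distrib]
    refine sum_congr rfl fun x _ => ?_
    rcases lt_trichotomy (e x) k with h | h | h
    · rw [if_pos h, if_neg (by omega), if_neg (by omega)]; rfl
    · rw [if_neg (by omega), if_pos h, if_neg (by omega), h]; simp
    · rw [if_neg (by omega), if_neg (by omega), if_pos h, ← pow_succ', ← pow_add]; simp; congr 1; omega
  have h2 : ∑ x ∈ S.filter (fun x => e x < k), W ^ e x < W ^ k := by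
    cases k with
    | zero => simp
    | succ k =>
      calc _ ≤ (S.filter (fun x => e x < k + 1)).card • W ^ k :=
            sum_le_card_nsmul _ _ _ fun x hx => Nat.pow_le_pow_right hW0 (by have := (mem_filter.1 hx).2; omega)
        _ < W * W ^ k := by
            rw [smul_eq_mul]
            exact Nat.mul_lt_mul_of_pos_right ((card_filter_le _ _).trans_lt hW) (Nat.pow_pos hW0)
        _ = _ := (pow_succ' _ _).symm
  rw [h1, Nat.add_mul_div_left _ _ (Nat.pow_pos hW0), Nat.div_eq_of_lt h2, zero_add, Nat.add_mul_mod_self_left,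
    Nat.mod_eq_of_lt ((card_filter_le _ _).trans_lt hW)]

/-- the allowed values with residue `r` modulo 4 -/
noncomputable def alph (P : ℤ → Bool) (r : ℤ) : Finset ℤ := (Icc (-8) 8).filter fun a => P a = true ∧ a % 4 = r

def expo (a : ℤ) : ℕ := 26 * a.natAbs ^ 2 + (a / 4 % 2).toNat

theorem card_alph (P : ℤ → Bool) (r : ℤ) : (alph P r).card ≤ 5 := by
  have : alph P r ⊆ (Icc (-2 : ℤ) 2).image fun b => r + 4 * b := by
    intro a ha
    simp only [alph, mem_filter, mem_Icc] at ha
    exact mem_image.2 ⟨a / 4, mem_Icc.2 (by omega), by omega⟩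
  exact (card_le_card this).trans (card_image_le.trans (by simp))

noncomputable def gA (P : ℤ → Bool) (r : ℕ) : ℕ :=
  sumLt 17 fun j => Bool.rec 0 (Nat.pow 2 (Nat.mul 64 (expo (Int.subNatNat j 8))))
    (P (Int.subNatNat j 8) && Nat.beq (Nat.mod j 4) r)

theorem gA_eq (P : ℤ → Bool) (r : ℕ) : gA P r = ∑ a ∈ alph P r, (2 ^ 64) ^ expo a := by
  unfold gA alph
  rw [sumLt_eq, sum_filter, show Icc (-8 : ℤ) 8 = (range 17).image fun j : ℕ => (j : ℤ) - 8 by decide,
    sum_image (by intro a _ b _ h; simp only at h; omega)]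
  refine sum_congr rfl fun j _ => ?_
  rw [Int.subNatNat_eq_coe]
  by_cases h1 : P ((j : ℤ) - 8) = true
  · by_cases h2 : j % 4 = r
    · have : Nat.beq (Nat.mod j 4) r = true := Nat.beq_eq ▸ h2
      rw [if_pos ⟨h1, by omega⟩, this, ← pow_mul]
      simp only [Nat.cast_ofNat, h1]; rfl
    · have : Nat.beq (Nat.mod j 4) r = false := by
        cases h : Nat.beq (Nat.mod j 4) r
        · rfl
        · exact absurd (Nat.eq_of_beq_eq_true h) h2
      rw [if_neg (fun h => h2 (by omega)), this]; simp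
  · rw [if_neg (fun h => h1 h.1)]
    simp only [Nat.cast_ofNat, Bool.eq_false_iff.2 h1]; rfl

/-- number of vectors with parity `m`, a given word of weight `w`, and norm `n` -/
noncomputable def cN (P : ℤ → Bool) (n m w : ℕ) : ℕ :=
  (fun F => sq F (sumLt 13 fun t => lane 64 F (Nat.add (Nat.mul 26 n) (Nat.add (Nat.mul 2 t) m))))
    (Nat.mul (Nat.pow (gA P (Nat.add m 2)) w) (Nat.pow (gA P m) (Nat.sub 24 w)))

noncomputable def box (P : ℤ → Bool) (m : ℕ) (c : Finset GolayPt) : Finset Vec :=
  Fintype.piFinset fun i => alph P (m + 2 * ind c i)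

theorem card_box (P : ℤ → Bool) (m : ℕ) (c : Finset GolayPt) : (box P m c).card < 2 ^ 64 := by
  unfold box
  rw [Fintype.card_piFinset]
  refine (prod_le_pow_card _ _ 5 fun i _ => card_alph _ _).trans_lt ?_
  rw [card_univ, card_pt]; norm_num

theorem sum_box (P : ℤ → Bool) (m : ℕ) (c : Finset GolayPt) :
    ∑ x ∈ box P m c, (2 ^ 64) ^ (∑ i, expo (x i)) = gA P (m + 2) ^ c.card * gA P m ^ (24 - c.card) := by
  simp only [← prod_pow_eq_pow_sum]
  rw [box, ← prod_univ_sum (fun i => alph P (m + 2 * ind c i)) (fun _ a => (2 ^ 64) ^ expo a), ← prod_mul_prod_compl c, ← card_pt, ← card_compl, ← prod_const, ← prod_const]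
  refine congrArg₂ (· * ·) ?_ ?_
  · exact prod_congr rfl fun i hi => by rw [gA_eq, ind, if_pos hi]; rfl
  · exact prod_congr rfl fun i hi => by rw [gA_eq, ind, if_neg (mem_compl.1 hi)]; simp

theorem sum_expo (x : Vec) : ((∑ i, expo (x i) : ℕ) : ℤ) = 26 * sqNorm x + ∑ i, x i / 4 % 2 := by
  unfold sqNorm expo
  rw [Nat.cast_sum, mul_sum, ← sum_add_distrib]
  refine sum_congr rfl fun i _ => ?_
  push_cast
  rw [sq_abs, Int.toNat_of_nonneg (by omega)]

noncomputable def cell (P : ℤ → Bool) (n m : ℕ) (c : Finset GolayPt) : Finset Vec :=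
  (box P m c).filter fun x => sqNorm x = n ∧ (2 : ℤ) ∣ ∑ i, x i / 4 - m

theorem card_cell (P : ℤ → Bool) (n : ℕ) {m : ℕ} (hm : m < 2) (c : Finset GolayPt) :
    (cell P n m c).card = cN P n m c.card := by
  unfold cN
  simp only [sq_eq, sumLt_eq]
  have e : Nat.mul (Nat.pow (gA P (Nat.add m 2)) c.card) (Nat.pow (gA P m) (Nat.sub 24 c.card)) = _ :=
    (sum_box P m c).symm
  rw [e]
  have hp : ∀ x : Vec, 0 ≤ ∑ i, x i / 4 % 2 ∧ ∑ i, x i / 4 % 2 ≤ 24 ∧ (2 : ℤ) ∣ ∑ i, x i / 4 - ∑ i, x i / 4 % 2 := by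
    intro x
    refine ⟨sum_nonneg fun i _ => by omega, ?_, ?_⟩
    · have := sum_le_card_nsmul univ (fun i => x i / 4 % 2) 1 fun i _ => by omega
      rwa [card_univ, card_pt] at this
    · rw [← sum_sub_distrib]; exact dvd_sum fun i _ => by omega
  rw [card_eq_sum_card_fiberwise (f := fun x : Vec => ((∑ i, x i / 4 % 2).toNat) / 2) (t := range 13) (by
    intro x _
    have := hp x
    simp only [coe_range, Set.mem_Iio]; omega)]
  refine sum_congr rfl fun t ht => ?_
  have := digit_count (box P m c) (fun x => ∑ i, expo (x i)) (card_box P m c) (26 * n + (2 * t + m))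
  rw [← pow_mul, ← Nat.shiftRight_eq_div_pow] at this
  refine Eq.trans ?_ this.symm
  rw [cell, filter_filter]
  refine congrArg card (filter_congr fun x _ => ?_)
  have h1 := hp x
  have h2 := sum_expo x
  have h3 := mem_range.1 ht
  clear this e
  generalize ∑ i, expo (x i) = d at *
  generalize ∑ i, x i / 4 % 2 = s at *
  generalize ∑ i, x i / 4 = s' at *
  constructor
  · rintro ⟨⟨h4, h5⟩, h6⟩; omega
  · intro h4
    refine ⟨⟨?_, ?_⟩, ?_⟩ <;> omega

noncomputable def totN (P : ℤ → Bool) (n : ℕ) : ℕ :=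
  sumLt 2 fun m => cN P n m 0 + 759 * cN P n m 8 + 2576 * cN P n m 12 + 759 * cN P n m 16 + cN P n m 24

noncomputable def CF : Finset (Finset GolayPt) := (Set.toFinite CC).toFinset

theorem mem_CF {c : Finset GolayPt} : c ∈ CF ↔ c ∈ CC := Set.Finite.mem_toFinset _

theorem card_CF_wt (w : ℕ) : (CF.filter fun c => c.card = w).card = cntLt 4096 fun n => Nat.beq (pc (cw n)) w := by
  rw [← ncard_CC (↑(CF.filter fun c => c.card = w)) (fun m => Nat.beq (pc m) w), Set.ncard_coe_finset]
  intro S
  simp [mem_CF, card_eq_pc]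

theorem sum_CF (g : ℕ → ℕ) : ∑ c ∈ CF, g c.card = g 0 + 759 * g 8 + 2576 * g 12 + 759 * g 16 + g 24 := by
  rw [← sum_fiberwise_of_maps_to (g := card) (t := {0, 8, 12, 16, 24}) (fun c hc => by
    have := CC_card (mem_CF.1 hc); simpa using this)]
  have h : ∀ w, ∑ c ∈ CF with c.card = w, g c.card = (cntLt 4096 fun n => Nat.beq (pc (cw n)) w) * g w := by
    intro w
    rw [sum_congr rfl (g := fun _ => g w) fun c hc => by rw [(mem_filter.1 hc).2], sum_const, card_CF_wt, smul_eq_mul]
  simp only [h]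
  rw [sum_insert (by decide), sum_insert (by decide), sum_insert (by decide), sum_insert (by decide), sum_singleton,
    show (cntLt 4096 fun n => Nat.beq (pc (cw n)) 0) = 1 by decide +kernel,
    show (cntLt 4096 fun n => Nat.beq (pc (cw n)) 8) = 759 by decide +kernel,
    show (cntLt 4096 fun n => Nat.beq (pc (cw n)) 12) = 2576 by decide +kernel,
    show (cntLt 4096 fun n => Nat.beq (pc (cw n)) 16) = 759 by decide +kernel,
    show (cntLt 4096 fun n => Nat.beq (pc (cw n)) 24) = 1 by decide +kernel]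
  ring

theorem mem_cell {P : ℤ → Bool} {n m : ℕ} {c : Finset GolayPt} {x : Vec} : x ∈ cell P n m c ↔
    (∀ i, (-8 ≤ x i ∧ x i ≤ 8) ∧ P (x i) = true ∧ x i % 4 = m + 2 * ind c i) ∧ sqNorm x = n ∧
      (2 : ℤ) ∣ ∑ i, x i / 4 - m := by
  simp only [cell, box, alph, mem_filter, Fintype.mem_piFinset, mem_Icc]

theorem count_leech (P : ℤ → Bool) {n : ℕ} (hn : n ≤ 80) :
    {x : Vec | x ∈ leechLattice ∧ sqNorm x = n ∧ ∀ i, P (x i) = true}.ncard = totN P n := by
  classical
  have e : {x : Vec | x ∈ leechLattice ∧ sqNorm x = n ∧ ∀ i, P (x i) = true} =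
      ↑((range 2 ×ˢ CF).biUnion fun z => cell P n z.1 z.2) := by
    ext x
    simp only [Set.mem_ofPred_eq, coe_biUnion, Set.mem_iUnion, mem_coe, mem_cell, mem_product, mem_range, mem_CF,
      exists_prop, Prod.exists]
    constructor
    · rintro ⟨h1, h2, h3⟩
      obtain ⟨m, c, y, hm, hc, hx, hs⟩ := exists_repL h1
      have h4 : ∀ i, x i / 4 = y i := fun i => by have := hx i; have := ind_cases c i; omega
      refine ⟨m.toNat, c, ⟨by omega, hc⟩, fun i => ⟨?_, h3 i, ?_⟩, h2, ?_⟩
      · have := sq_le x i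
        constructor <;> nlinarith
      · have := hx i; have := ind_cases c i; omega
      · simp only [h4]; omega
    · rintro ⟨m, c, ⟨hm, hc⟩, h1, h2, h3⟩
      refine ⟨Rep.memL (m := m) (c := c) (y := fun i => x i / 4) ⟨hc, fun i => ?_, h3⟩, h2, fun i => (h1 i).2.1⟩
      have := (h1 i).2.2; beta_reduce; omega
  rw [e, Set.ncard_coe_finset, card_biUnion, sum_product, totN, sumLt_eq]
  · refine sum_congr rfl fun m hm => ?_
    rw [← sum_CF (cN P n m)]
    exact sum_congr rfl fun c _ => card_cell P n (mem_range.1 hm) c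
  · rintro ⟨m, c⟩ h ⟨m', c'⟩ h' hne
    refine disjoint_left.2 fun x h1 h2 => hne ?_
    simp only [coe_product, coe_range, Set.mem_prod, Set.mem_Iio] at h h'
    have h3 := fun i => ((mem_cell.1 h1).1 i).2.2
    have h4 := fun i => ((mem_cell.1 h2).1 i).2.2
    have hm : m = m' := by
      have := h3 none; have := h4 none; have := ind_cases c none; have := ind_cases c' none; omega
    subst hm
    congr 1
    ext i
    have := h3 i; have := h4 i
    unfold ind at *
    by_cases h5 : i ∈ c <;> by_cases h6 : i ∈ c' <;> simp_all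

theorem count_all {n k : ℕ} (hn : n ≤ 80) (h : totN (fun _ => true) n = k) :
    {x : Vec | x ∈ leechLattice ∧ sqNorm x = n}.ncard = k := by
  rw [← h, ← count_leech _ hn]; simp

theorem ncard_32 : {x : Vec | x ∈ leechLattice ∧ sqNorm x = 32}.ncard = 196560 :=
  count_all (n := 32) (by decide) (by decide +kernel)
theorem ncard_48 : {x : Vec | x ∈ leechLattice ∧ sqNorm x = 48}.ncard = 16773120 :=
  count_all (n := 48) (by decide) (by decide +kernel)
theorem ncard_64 : {x : Vec | x ∈ leechLattice ∧ sqNorm x = 64}.ncard = 398034000 :=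
  count_all (n := 64) (by decide) (by decide +kernel)

theorem ncard_LL (Q : Vec → Prop) : {x : LL | Q x}.ncard = {x : Vec | x ∈ leechLattice ∧ Q x}.ncard := by
  rw [← Set.ncard_image_of_injective _ Subtype.val_injective]
  congr 1
  ext x
  simp only [Set.mem_image, Set.mem_ofPred_eq, Subtype.exists, exists_and_right, exists_eq_right, exists_prop]

theorem ncardL_32 : {x : LL | sqNorm (x : Vec) = 32}.ncard = 196560 := (ncard_LL fun x => sqNorm x = 32).trans ncard_32
theorem ncardL_48 : {x : LL | sqNorm (x : Vec) = 48}.ncard = 16773120 := (ncard_LL fun x => sqNorm x = 48).trans ncard_48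
theorem ncardL_64 : {x : LL | sqNorm (x : Vec) = 64}.ncard = 398034000 :=
  (ncard_LL fun x => sqNorm x = 64).trans ncard_64

end H6
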