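import Cfsg.Agent.H6.LBasis
import Cfsg.Agent.H6.LCount

/-! Short vectors modulo twice the lattice; the frame group; centre and upper bound for the order of `Co0`. -/

namespace H6
open Cfsg Finset MulAction
open scoped Pointwise

/-- an even lattice of rank at most 24 and minimum at least 4, with its reduction modulo 2 -/
structure EvL (L : Type) [AddCommGroup L] (Q : Type) where
  B : L →+ L →+ ℤ
  symm : ∀ x y, B x y = B y x
  even : ∀ x, (2 : ℤ) ∣ B x x
  min : ∀ x, x ≠ 0 → 4 ≤ B x x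
  rank : ∀ T : Finset L, LinearIndependent ℤ (fun x => x : T → L) → T.card ≤ 24
  κ : L → Q
  hκ : ∀ x y, κ x = κ y ↔ ∃ z, x - y = z + z

namespace EvL
variable {L : Type} [AddCommGroup L] {Q : Type} (E : EvL L Q)

theorem q_add (x y : L) : E.B (x + y) (x + y) = E.B x x + E.B y y + 2 * E.B x y := by
  simp only [map_add, AddMonoidHom.add_apply, E.symm y x]; ring

theorem q_sub (x y : L) : E.B (x - y) (x - y) = E.B x x + E.B y y - 2 * E.B x y := by
  simp only [map_sub, AddMonoidHom.sub_apply, E.symm y x]; ring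

theorem q_neg (x : L) : E.B (-x) (-x) = E.B x x := by simp

theorem nonneg (x : L) : 0 ≤ E.B x x := by
  by_cases h : x = 0
  · simp [h]
  · have := E.min x h; omega

theorem cong {x y : L} (hx : E.B x x ≤ 8) (hy : E.B y y ≤ 8) (h : E.κ x = E.κ y) :
    y = x ∨ y = -x ∨ (E.B x x = 8 ∧ E.B y y = 8 ∧ E.B x y = 0) := by
  obtain ⟨z, hz⟩ := (E.hκ x y).1 h
  by_cases h1 : z = 0
  · left; rw [h1, add_zero, sub_eq_zero] at hz; exact hz.symm
  have e : x + y = (z + y) + (z + y) := by rw [eq_add_of_sub_eq hz]; abel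
  by_cases h2 : z + y = 0
  · right; left; rw [h2, add_zero] at e; exact eq_neg_of_add_eq_zero_right e
  have h3 := E.q_sub x y
  have h4 := E.q_add x y
  rw [hz, E.q_add] at h3
  rw [e, E.q_add] at h4
  have := E.min _ h1
  have := E.min _ h2
  omega

include E in
theorem neg_ne {x : L} (h : x ≠ 0) : -x ≠ x := fun e => by
  have h1 := E.min x h
  have h2 : E.B (-x) x = E.B x x := by rw [e]
  simp only [map_neg, AddMonoidHom.neg_apply] at h2
  omega

theorem κ_neg (x : L) : E.κ (-x) = E.κ x := (E.hκ _ _).2 ⟨-x, by abel⟩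

theorem orth_le (T : Finset L) (h0 : ∀ x ∈ T, x ≠ 0) (h : ∀ x ∈ T, ∀ y ∈ T, x ≠ y → E.B x y = 0) :
    T.card ≤ 24 := by
  classical
  refine E.rank T (Fintype.linearIndependent_iff.2 fun a ha j => ?_)
  have h1 := congrArg (fun v => E.B v j) ha
  simp only [map_sum, map_zsmul, AddMonoidHom.finsetSum_apply, AddMonoidHom.smul_apply, smul_eq_mul, map_zero,
    AddMonoidHom.zero_apply] at h1
  rw [sum_eq_single j (fun i _ hi => by rw [h i i.2 j j.2 fun e => hi (Subtype.ext e), mul_zero]) (by simp)] at h1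
  have := E.min _ (h0 j j.2)
  exact (mul_eq_zero.1 h1).resolve_right (by omega)

theorem fib8 (C : Finset L) (h8 : ∀ x ∈ C, E.B x x = 8) (hC : ∀ x ∈ C, ∀ y ∈ C, E.κ x = E.κ y) :
    C.card ≤ 48 := by
  classical
  let _ : LinearOrder L := linearOrderOfSTO WellOrderingRel
  have h0 : ∀ x ∈ C, x ≠ 0 := fun x hx e => by have := h8 x hx; simp [e] at this
  have key : ∀ (T : Finset L), T ⊆ C → (∀ x ∈ T, ∀ y ∈ T, y ≠ -x) → T.card ≤ 24 := fun T hT h =>
    E.orth_le T (fun x hx => h0 x (hT hx)) fun x hx y hy hne => by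
      rcases E.cong (h8 x (hT hx)).le (h8 y (hT hy)).le (hC x (hT hx) y (hT hy)) with e | e | e
      · exact absurd e.symm hne
      · exact absurd e (h x hx y hy)
      · exact e.2.2
  have h1 := key (C.filter fun x => x < -x) (filter_subset _ _) fun x hx y hy e => by
    have h1 := (mem_filter.1 hx).2
    have h2 := (mem_filter.1 hy).2
    rw [e, neg_neg] at h2
    exact lt_asymm h1 h2
  have h2 := key (C.filter fun x => ¬ x < -x) (filter_subset _ _) fun x hx y hy e => by
    have h1 := (mem_filter.1 hx).2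
    have h2 := (mem_filter.1 hy).2
    rw [e, neg_neg] at h2
    exact E.neg_ne (h0 x (mem_filter.1 hx).1) (le_antisymm (not_lt.1 h1) (not_lt.1 h2))
  have := card_filter_add_card_filter_not (s := C) fun x => x < -x
  omega

theorem fib2 (C : Finset L) (h8 : ∀ x ∈ C, E.B x x < 8) (hC : ∀ x ∈ C, ∀ y ∈ C, E.κ x = E.κ y) :
    C.card ≤ 2 := by
  classical
  rcases C.eq_empty_or_nonempty with rfl | ⟨x, hx⟩
  · simp
  refine (card_le_card (t := {x, -x}) fun y hy => ?_).trans card_le_two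
  rcases E.cong (h8 x hx).le (h8 y hy).le (hC x hx y hy) with e | e | e
  · simp [e]
  · simp [e]
  · have := h8 x hx; omega

theorem main [Fintype Q] (hQ : Fintype.card Q = 2 ^ 24) (h4 : {x | E.B x x = 4}.ncard = 196560)
    (h6 : {x | E.B x x = 6}.ncard = 16773120) (h8 : {x | E.B x x = 8}.ncard = 398034000) :
    (∀ x, ∃ y, E.B y y ≤ 8 ∧ E.κ x = E.κ y) ∧ (E.κ '' {x | E.B x x = 8}).ncard = 8292375 ∧
      ∀ x, E.B x x = 8 → {y | E.B y y = 8 ∧ E.κ x = E.κ y}.ncard = 48 := by
  classical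
  obtain ⟨S4, e4⟩ := (Set.finite_of_ncard_ne_zero (h4 ▸ by decide : {x | E.B x x = 4}.ncard ≠ 0)).exists_finset_coe
  obtain ⟨S6, e6⟩ := (Set.finite_of_ncard_ne_zero (h6 ▸ by decide : {x | E.B x x = 6}.ncard ≠ 0)).exists_finset_coe
  obtain ⟨S8, e8⟩ := (Set.finite_of_ncard_ne_zero (h8 ▸ by decide : {x | E.B x x = 8}.ncard ≠ 0)).exists_finset_coe
  have m4 : ∀ x, x ∈ S4 ↔ E.B x x = 4 := fun x => by rw [← mem_coe, e4]; rfl
  have m6 : ∀ x, x ∈ S6 ↔ E.B x x = 6 := fun x => by rw [← mem_coe, e6]; rfl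
  have m8 : ∀ x, x ∈ S8 ↔ E.B x x = 8 := fun x => by rw [← mem_coe, e8]; rfl
  rw [← e4, Set.ncard_coe_finset] at h4
  rw [← e6, Set.ncard_coe_finset] at h6
  rw [← e8, Set.ncard_coe_finset] at h8
  have c4 := card_le_mul_card_image (f := E.κ) S4 2 fun b _ => E.fib2 _
    (fun x hx => by rw [(m4 x).1 (mem_filter.1 hx).1]; decide)
    fun x hx y hy => (mem_filter.1 hx).2.trans (mem_filter.1 hy).2.symm
  have c6 := card_le_mul_card_image (f := E.κ) S6 2 fun b _ => E.fib2 _
    (fun x hx => by rw [(m6 x).1 (mem_filter.1 hx).1]; decide)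
    fun x hx y hy => (mem_filter.1 hx).2.trans (mem_filter.1 hy).2.symm
  have f8 : ∀ b ∈ S8.image E.κ, (S8.filter fun a => E.κ a = b).card ≤ 48 := fun b _ => E.fib8 _
    (fun x hx => (m8 x).1 (mem_filter.1 hx).1) fun x hx y hy => (mem_filter.1 hx).2.trans (mem_filter.1 hy).2.symm
  have c8 := card_le_mul_card_image (f := E.κ) S8 48 f8
  have dj : ∀ (S T : Finset L) (a b : ℤ), (∀ x ∈ S, E.B x x = a) → (∀ x ∈ T, E.B x x = b) → a < b → b ≤ 8 →
      Disjoint (S.image E.κ) (T.image E.κ) := by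
    intro S T a b hS hT hab hb
    refine disjoint_left.2 fun c hc hc' => ?_
    obtain ⟨x, hx, rfl⟩ := mem_image.1 hc
    obtain ⟨y, hy, e⟩ := mem_image.1 hc'
    have h1 := hS x hx
    have h2 := hT y hy
    rcases E.cong (x := x) (y := y) (by omega) (by omega) e.symm with e | e | e
    · rw [e] at h2; omega
    · rw [e, E.q_neg] at h2; omega
    · omega
  have z0 : ∀ x ∈ ({0} : Finset L), E.B x x = 0 := by simp
  have a4 := fun x hx => (m4 x).1 hx
  have a6 := fun x hx => (m6 x).1 hx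
  have a8 := fun x hx => (m8 x).1 hx
  have hU : (({0} : Finset L).image E.κ ∪ (S4.image E.κ ∪ (S6.image E.κ ∪ S8.image E.κ))).card =
      1 + ((S4.image E.κ).card + ((S6.image E.κ).card + (S8.image E.κ).card)) := by
    rw [card_union_of_disjoint, card_union_of_disjoint, card_union_of_disjoint, image_singleton, card_singleton]
    · exact dj _ _ _ _ a6 a8 (by decide) (by decide)
    · exact disjoint_union_right.2 ⟨dj _ _ _ _ a4 a6 (by decide) (by decide), dj _ _ _ _ a4 a8 (by decide) (by decide)⟩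
    · exact disjoint_union_right.2 ⟨dj _ _ _ _ z0 a4 (by decide) (by decide), disjoint_union_right.2
        ⟨dj _ _ _ _ z0 a6 (by decide) (by decide), dj _ _ _ _ z0 a8 (by decide) (by decide)⟩⟩
  have hle := card_le_univ (({0} : Finset L).image E.κ ∪ (S4.image E.κ ∪ (S6.image E.κ ∪ S8.image E.κ)))
  have h9 : (S8.image E.κ).card = 8292375 := by omega
  refine ⟨fun x => ?_, by rw [← e8, ← coe_image, Set.ncard_coe_finset, h9], fun x hx => ?_⟩
  · have := eq_univ_of_card _ (le_antisymm hle (by omega))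
    have h1 := this ▸ mem_univ (E.κ x)
    simp only [← image_union, mem_image, mem_union] at h1
    obtain ⟨y, hy, e⟩ := h1
    refine ⟨y, ?_, e.symm⟩
    rcases hy with h | h | h | h
    · rw [z0 y h]; decide
    · rw [a4 y h]; decide
    · rw [a6 y h]; decide
    · rw [a8 y h]
  · have e : {y | E.B y y = 8 ∧ E.κ x = E.κ y} = ↑(S8.filter fun a => E.κ a = E.κ x) := by
      ext y; simp [m8, eq_comm]
    rw [e, Set.ncard_coe_finset]
    by_contra hne
    have h1 := sum_lt_sum f8 ⟨E.κ x, mem_image_of_mem _ ((m8 x).2 hx),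
      lt_of_le_of_ne (f8 _ (mem_image_of_mem _ ((m8 x).2 hx))) hne⟩
    rw [← card_eq_sum_card_image, sum_const, smul_eq_mul] at h1
    omega

end EvL

theorem zmod2_eq_iff (a b : ℤ) : (a : ZMod 2) = b ↔ (2 : ℤ) ∣ a - b := by
  rw [← sub_eq_zero, ← Int.cast_sub, ZMod.intCast_zmod_eq_zero_iff_dvd]; rfl

/-- the lattice given by a Gram matrix -/
noncomputable def evMat (B : Matrix (Fin 24) (Fin 24) ℤ) (hsymm : B.IsSymm)
    (hpos : ∀ x : Fin 24 → ℤ, x ≠ 0 → 0 < x ⬝ᵥ (B.mulVec x)) (heven : ∀ x : Fin 24 → ℤ, (2 : ℤ) ∣ x ⬝ᵥ (B.mulVec x))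
    (h2 : ∀ x : Fin 24 → ℤ, x ⬝ᵥ (B.mulVec x) ≠ 2) : EvL (Fin 24 → ℤ) (Fin 24 → ZMod 2) where
  B := AddMonoidHom.mk' (fun x => AddMonoidHom.mk' (fun y => x ⬝ᵥ (B.mulVec y)) fun y z => by
    rw [Matrix.mulVec_add, dotProduct_add]) fun x y => by ext z; simp
  symm x y := by
    show x ⬝ᵥ (B.mulVec y) = y ⬝ᵥ (B.mulVec x)
    rw [Matrix.dotProduct_mulVec, ← Matrix.mulVec_transpose, hsymm.eq, dotProduct_comm]
  even := heven
  min x hx := by
    have := hpos x hx; have := heven x; have := h2 x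
    show 4 ≤ x ⬝ᵥ (B.mulVec x)
    omega
  rank T h := h.finset_card_le_finrank.trans (by simp)
  κ x i := x i
  hκ x y := by
    simp only [funext_iff, zmod2_eq_iff]
    constructor
    · intro h
      exact ⟨fun i => (x i - y i) / 2, fun i => by have := h i; simp only [Pi.sub_apply, Pi.add_apply]; omega⟩
    · rintro ⟨z, hz⟩ i
      have := hz i
      simp only [Pi.sub_apply, Pi.add_apply] at this; omega

/-- the class modulo twice the lattice -/
noncomputable def kap (x : LL) : GolayPt → ZMod 2 := fun p => (co x p : ℤ)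

theorem kap_eq {x y : LL} : kap x = kap y ↔ ∃ z, x - y = z + z := by
  simp only [two_iff, funext_iff, kap, zmod2_eq_iff, co_sub]

theorem eight_dot (x y : LL) : 8 * (dotInt (x : Vec) (y : Vec) / 8) = dotInt (x : Vec) (y : Vec) :=
  Int.mul_ediv_cancel' (dot_dvd x.2 y.2)

noncomputable def evL : EvL LL (GolayPt → ZMod 2) where
  B := AddMonoidHom.mk' (fun x => AddMonoidHom.mk' (fun y => dotInt (x : Vec) (y : Vec) / 8) fun y z => by
    have := eight_dot x y; have := eight_dot x z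
    rw [AddSubgroup.coe_add, dot_add']; omega) fun x y => by
    ext z
    have := eight_dot x z; have := eight_dot y z
    simp only [AddMonoidHom.mk'_apply, AddMonoidHom.add_apply, AddSubgroup.coe_add, dot_add]; omega
  symm x y := by simp only [AddMonoidHom.mk'_apply, dot_comm]
  even x := by
    have := sq_dvd x.2
    simp only [AddMonoidHom.mk'_apply, dot_self]; omega
  min x hx := by
    have := sq_min x.2 fun e => hx (Subtype.ext e)
    simp only [AddMonoidHom.mk'_apply, dot_self]; omega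
  rank T h := by
    have := Module.Finite.of_basis (dualBasis bd_dot)
    exact h.finset_card_le_finrank.trans (by rw [Module.finrank_eq_card_basis (dualBasis bd_dot), card_pt])
  κ := kap
  hκ _ _ := kap_eq

theorem evL_B (x y : LL) : 8 * evL.B x y = dotInt (x : Vec) (y : Vec) := eight_dot x y
theorem evL_q (x : LL) : 8 * evL.B x x = sqNorm (x : Vec) := (evL_B x x).trans (dot_self _)

theorem kap_cong {x y : LL} (hx : sqNorm (x : Vec) ≤ 64) (hy : sqNorm (y : Vec) ≤ 64) (h : kap x = kap y) :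
    y = x ∨ y = -x ∨ (sqNorm (x : Vec) = 64 ∧ sqNorm (y : Vec) = 64 ∧ dotInt (x : Vec) (y : Vec) = 0) := by
  have h1 := evL_q x
  have h2 := evL_q y
  have h3 := evL_B x y
  rcases evL.cong (x := x) (y := y) (by omega) (by omega) h with e | e | e
  · exact Or.inl e
  · exact Or.inr (Or.inl e)
  · right; right; omega

theorem kap_pm {x y : LL} (hx : sqNorm (x : Vec) < 64) (hy : sqNorm (y : Vec) ≤ 64) (h : kap x = kap y) :
    y = x ∨ y = -x := by
  rcases kap_cong hx.le hy h with e | e | e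
  exacts [Or.inl e, Or.inr e, absurd e.1 hx.ne]

theorem kap_neg (x : LL) : kap (-x) = kap x := evL.κ_neg x

theorem kap_smul (g : Co0) {x y : LL} : kap (g • x) = kap (g • y) ↔ kap x = kap y := by
  have : ∀ (g : Co0) {x y : LL}, kap x = kap y → kap (g • x) = kap (g • y) := by
    intro g x y h
    obtain ⟨z, hz⟩ := kap_eq.1 h
    exact kap_eq.2 ⟨g • z, by rw [← smul_sub, hz, smul_add]⟩
  exact ⟨fun h => by simpa using this g⁻¹ h, this g⟩

theorem evL_set (a : ℤ) : {x : LL | evL.B x x = a} = {x : LL | sqNorm (x : Vec) = 8 * a} := by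
  ext x
  have := evL_q x
  simp only [Set.mem_ofPred_eq]; omega

theorem kap_main : (∀ x : LL, ∃ y : LL, sqNorm (y : Vec) ≤ 64 ∧ kap x = kap y) ∧
    (kap '' {x : LL | sqNorm (x : Vec) = 64}).ncard = 8292375 ∧
      ∀ x : LL, sqNorm (x : Vec) = 64 → {y : LL | sqNorm (y : Vec) = 64 ∧ kap x = kap y}.ncard = 48 := by
  obtain ⟨h1, h2, h3⟩ := evL.main (by rw [Fintype.card_fun, card_pt, ZMod.card])
    (by rw [evL_set]; exact ncardL_32) (by rw [evL_set]; exact ncardL_48) (by rw [evL_set]; exact ncardL_64)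
  refine ⟨fun x => ?_, by rw [evL_set] at h2; exact h2, fun x hx => ?_⟩
  · obtain ⟨y, h4, h5⟩ := h1 x
    exact ⟨y, by have := evL_q y; omega, h5⟩
  · rw [← h3 x (by have := evL_q x; omega)]
    congr 1; ext y
    have := evL_q y
    simp only [Set.mem_ofPred_eq]
    exact and_congr (by omega) Iff.rfl

/-! ### the frame group -/

theorem mem_stdCross {v : LL} : (v : Vec) ∈ stdCross ↔ ∃ i, v = fr i ∨ v = -fr i := by
  constructor
  · rintro ⟨i, s, rfl | rfl, h⟩
    · exact ⟨i, Or.inl (Subtype.ext h)⟩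
    · exact ⟨i, Or.inr (Subtype.ext (h.trans (Pi.single_neg i 8)))⟩
  · rintro ⟨i, rfl | rfl⟩
    · exact ⟨i, 8, Or.inl rfl, rfl⟩
    · exact ⟨i, -8, Or.inr rfl, (Pi.single_neg i 8).symm⟩

theorem kap_fr (i j : GolayPt) : kap (fr i) = kap (fr j) :=
  kap_eq.2 ⟨⟨_, four_mem (y := Pi.single i 1 - Pi.single j 1) (by simp)⟩, by
    ext p
    simp only [fr, AddSubgroup.coe_sub, AddSubgroup.coe_add, Pi.sub_apply, Pi.add_apply, Pi.single_apply]
    split_ifs <;> rfl⟩

theorem mem_stdCross_iff {v : LL} : (v : Vec) ∈ stdCross ↔ sqNorm (v : Vec) = 64 ∧ kap (fr none) = kap v := by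
  rw [mem_stdCross]
  constructor
  · rintro ⟨i, rfl | rfl⟩
    · exact ⟨sq_fr i, kap_fr _ _⟩
    · exact ⟨(sq_neg _).trans (sq_fr i), (kap_fr _ _).trans (kap_neg _).symm⟩
  · rintro ⟨h1, h2⟩
    by_contra h
    push Not at h
    have : (v : Vec) = 0 := by
      funext i
      rcases kap_cong (sq_fr i).le h1.le ((kap_fr _ _).trans h2) with e | e | e
      · exact absurd e (h i).1
      · exact absurd e (h i).2
      · have := e.2.2
        rw [dot_comm, dot_fr] at this
        show _ = (0 : ℤ); omega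
    rw [this, sq_zero] at h1; omega

theorem mono_fr (σ : M24) (c : CC) (i : GolayPt) :
    mono σ c • fr i = if σ • i ∈ c.1 then -fr (σ • i) else fr (σ • i) := by
  ext j
  obtain ⟨j, rfl⟩ := (MulAction.toPerm σ).surjective j
  rw [MulAction.toPerm_apply, mono_apply]
  by_cases h : j = i
  · subst h; split_ifs <;> simp [fr]
  · have : σ • j ≠ σ • i := fun e => h (smul_left_cancel σ e)
    split_ifs <;> simp [fr, h, this]

theorem exists_mono {g : Co0} (hg : ∀ i, ((g • fr i : LL) : Vec) ∈ stdCross) : ∃ σ c, g = mono σ c := by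
  classical
  choose s hs using fun i => mem_stdCross.1 (hg i)
  have hv : ∀ (v : LL) i, ((g • v : LL) : Vec) (s i) = if g • fr i = fr (s i) then (v : Vec) i else -(v : Vec) i := by
    intro v i
    have h1 := dot_smulL g v (fr i)
    split_ifs with h
    · rw [h, dot_fr, dot_fr] at h1; omega
    · rw [(hs i).resolve_left h, AddSubgroup.coe_neg, dot_neg', dot_fr, dot_fr] at h1; omega
  have hi : Function.Injective s := by
    intro i j e
    by_contra hne
    have h1 := hv (fr i) i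
    have h2 := hv (fr i) j
    rw [← e, h1] at h2
    have h3 : (fr i : Vec) i = 8 := by simp [fr]
    have h4 : (fr i : Vec) j = 0 := by simp [fr, Ne.symm hne]
    rw [h3, h4] at h2
    split_ifs at h2 <;> omega
  let σ : Equiv.Perm GolayPt := Equiv.ofBijective s (Finite.injective_iff_bijective.1 hi)
  have hσ : σ ∈ M24 := mem_M24_of_maps fun S hS => by
    obtain ⟨m, -, -, h⟩ := mem_leech.1 (g • (⟨_, two_ind_mem hS⟩ : LL)).2
    convert h 2 using 1
    ext j
    obtain ⟨j, rfl⟩ := σ.surjective j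
    have : σ j ∈ σ • S ↔ j ∈ S := Finset.smul_mem_smul_finset_iff σ
    rw [this, mem_filter, show σ j = s j from rfl, hv]
    simp only [mem_univ, true_and, ind]
    split_ifs <;> simp [*] <;> decide
  have hc : (univ.filter fun j => ((g • Spor.leechV : LL) : Vec) j ≡ 1 [ZMOD 4]) ∈ CC :=
    (mem_leech.1 (g • Spor.leechV).2).choose_spec.2.2 1
  refine ⟨⟨σ, hσ⟩, ⟨_, hc⟩, co0_ext fun v => ?_⟩
  ext j
  obtain ⟨j, rfl⟩ := σ.surjective j
  have := mono_apply ⟨σ, hσ⟩ ⟨_, hc⟩ v j
  rw [smul_pt_def] at this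
  refine Eq.trans ?_ this.symm
  have h6 : σ j ∈ (univ.filter fun j => ((g • Spor.leechV : LL) : Vec) j ≡ 1 [ZMOD 4]) ↔
      (if g • fr j = fr (s j) then (Spor.leechV : Vec) j else -(Spor.leechV : Vec) j) ≡ 1 [ZMOD 4] := by
    rw [mem_filter, show σ j = s j from rfl, hv]; simp only [mem_univ, true_and]
  refine (hv v j).trans ?_
  have h5 : (Spor.leechV : Vec) j = -5 ∨ (Spor.leechV : Vec) j = -1 := by
    show Spor.vecV j = -5 ∨ Spor.vecV j = -1
    unfold Spor.vecV; split_ifs <;> simp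
  by_cases h : g • fr j = fr (s j)
  · rw [if_pos h] at h6
    rw [if_pos h, if_neg (h6.not.2 (by rcases h5 with e | e <;> rw [e] <;> decide))]
  · rw [if_neg h] at h6
    rw [if_neg h, if_pos (h6.2 (by rcases h5 with e | e <;> rw [e] <;> decide))]

theorem fr_inj {i j : GolayPt} (h : fr i = fr j ∨ fr i = -fr j) : i = j := by
  by_contra hne
  rcases h with h | h <;> have := congrArg (fun v : LL => (v : Vec) i) h <;> simp [fr, hne] at this

theorem mono_inj {σ τ : M24} {c d : CC} (h : mono σ c = mono τ d) : σ = τ ∧ c = d := by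
  have h1 : ∀ i, σ • i = τ • i ∧ (σ • i ∈ c.1 ↔ τ • i ∈ d.1) := by
    intro i
    have h2 := mono_fr σ c i
    rw [h, mono_fr] at h2
    have h0 : ∀ j, -fr j ≠ fr j := fun j => neg_ne (ne_zero_of_sq (sq_fr j) (by decide))
    split_ifs at h2 with a b b
    · exact ⟨fr_inj (Or.inl (neg_injective h2).symm), iff_of_true b a⟩
    · have e := fr_inj (Or.inr h2.symm); rw [e] at h2; exact absurd h2 (h0 _)
    · have e := fr_inj (Or.inr h2); rw [e] at h2; exact absurd h2.symm (h0 _)
    · exact ⟨fr_inj (Or.inl h2.symm), iff_of_false b a⟩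
  obtain rfl : σ = τ := Subtype.ext (Equiv.ext fun i => (h1 i).1)
  refine ⟨rfl, Subtype.ext (Finset.ext fun j => ?_)⟩
  simpa using (h1 (σ⁻¹ • j)).2

/-- the class of a vector of norm 64 -/
def cl (x : LL) : Set LL := {y | sqNorm (y : Vec) = 64 ∧ kap x = kap y}

theorem smul_cl (g : Co0) (x : LL) : g • cl x = cl (g • x) := by
  ext y
  rw [Set.mem_smul_set_iff_inv_smul_mem, cl, cl, Set.mem_ofPred_eq, Set.mem_ofPred_eq, sq_smulL, ← kap_smul g,
    smul_inv_smul]

theorem cl_eq {x y : LL} (hx : sqNorm (x : Vec) = 64) : cl x = cl y ↔ kap x = kap y :=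
  ⟨fun h => (h ▸ (⟨hx, rfl⟩ : x ∈ cl x) : x ∈ cl y).2.symm, fun h => by simp only [cl, h]⟩

/-- the frame group -/
def frameG : Subgroup Co0 := stabilizer Co0 (cl (fr none))

theorem mem_frameG {g : Co0} : g ∈ frameG ↔ kap (g • fr none) = kap (fr none) := by
  rw [frameG, mem_stabilizer_iff, smul_cl, cl_eq ((sq_smulL _ _).trans (sq_fr _))]

theorem mem_frameG' {g : Co0} : g ∈ frameG ↔ ∀ v : LL, (v : Vec) ∈ stdCross → ((g • v : LL) : Vec) ∈ stdCross := by
  simp only [mem_frameG, mem_stdCross_iff, sq_smulL]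
  exact ⟨fun h v hv => ⟨hv.1, h.symm.trans ((kap_smul g).2 hv.2)⟩, fun h => (h _ ⟨sq_fr _, rfl⟩).2.symm⟩

theorem mono_mem (σ : M24) (c : CC) : mono σ c ∈ frameG := by
  rw [mem_frameG, mono_fr]
  split_ifs
  · rw [kap_neg, kap_fr]
  · rw [kap_fr]

theorem mem_frameG_iff {g : Co0} : g ∈ frameG ↔ ∃ σ c, g = mono σ c :=
  ⟨fun h => exists_mono fun i => mem_frameG'.1 h _ (mem_stdCross.2 ⟨i, Or.inl rfl⟩),
    by rintro ⟨σ, c, rfl⟩; exact mono_mem σ c⟩

theorem card_frameG : Nat.card frameG = 4096 * 244823040 := by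
  rw [← Nat.card_congr (Equiv.ofBijective (fun z : M24 × CC => (⟨mono z.1 z.2, mono_mem _ _⟩ : frameG))
    ⟨fun z z' h => Prod.ext (mono_inj (congrArg Subtype.val h)).1 (mono_inj (congrArg Subtype.val h)).2,
      fun g => by obtain ⟨σ, c, h⟩ := mem_frameG_iff.1 g.2; exact ⟨(σ, c), Subtype.ext h.symm⟩⟩),
    Nat.card_prod, card_M24, Nat.card_coe_set_eq, ncard_CC_all]

theorem ncard_cls : (cl '' {x : LL | sqNorm (x : Vec) = 64}).ncard = 8292375 := by
  rw [← kap_main.2.1]
  let f : (GolayPt → ZMod 2) → Set LL := fun a => {y | sqNorm (y : Vec) = 64 ∧ a = kap y}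
  rw [show cl = f ∘ kap from rfl, Set.image_comp]
  refine Set.InjOn.ncard_image ?_
  rintro _ ⟨x, hx, rfl⟩ _ ⟨y, -, rfl⟩ h
  exact (cl_eq hx).1 h

theorem orb_cl_sub : orb (⊤ : Subgroup Co0) (cl (fr none)) ⊆ cl '' {x : LL | sqNorm (x : Vec) = 64} :=
  orb_subset (by
    rintro g - _ ⟨x, hx, rfl⟩
    exact ⟨g • x, (sq_smulL g x).trans hx, (smul_cl g x).symm⟩) ⟨_, sq_fr none, rfl⟩

theorem finite_cls : (cl '' {x : LL | sqNorm (x : Vec) = 64}).Finite := (finite_sqL 64).image _

instance : Finite Co0 := by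
  refine Nat.finite_of_card_ne_zero ?_
  rw [card_orb_top (cl (fr none))]
  refine mul_ne_zero ?_ (by rw [← frameG, card_frameG]; decide)
  exact ((Set.ncard_pos (finite_cls.subset orb_cl_sub)).2 ⟨_, self_mem_orb _ _⟩).ne'

theorem card_Co0_le : Nat.card Co0 ≤ 8315553613086720000 := by
  rw [card_orb_top (cl (fr none)), ← frameG, card_frameG]
  have := Set.ncard_le_ncard orb_cl_sub finite_cls
  rw [ncard_cls] at this
  exact (Nat.mul_le_mul_right _ this).trans (by norm_num)

theorem trans_64 (h : Nat.card Co0 = 8315553613086720000) {v w : LL} (hv : sqNorm (v : Vec) = 64)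
    (hw : sqNorm (w : Vec) = 64) : ∃ g : Co0, kap (g • v) = kap w := by
  rw [card_orb_top (cl (fr none)), ← frameG, card_frameG] at h
  have h1 := Set.eq_of_subset_of_ncard_le orb_cl_sub (by rw [ncard_cls]; omega) finite_cls
  obtain ⟨g, -, hg⟩ := orb_trans (K := ⊤) (h1.ge ⟨v, hv, rfl⟩) (h1.ge ⟨w, hw, rfl⟩)
  rw [smul_cl, cl_eq ((sq_smulL _ _).trans hv)] at hg
  exact ⟨g, hg⟩

/-! ### centre -/

theorem exists_sep {i j : GolayPt} (h : i ≠ j) : ∃ c ∈ CC, j ∈ c ∧ i ∉ c := by
  obtain ⟨g, h1, h2⟩ := tr2 (a := pt 1) (b := pt 0) (by decide) h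
  refine ⟨g • dec (cw 1), (smul_mem_CC' g _).2 (dec_cw_mem (by decide)), ?_, ?_⟩
  · rw [← h2, Finset.smul_mem_smul_finset_iff, pt_mem_dec (by decide)]; decide +kernel
  · rw [← h1, Finset.smul_mem_smul_finset_iff, pt_mem_dec (by decide)]; decide +kernel

theorem pm_of_diag {z : Co0} {a : ℤ} (h : ∀ i, ((z • fr i : LL) : Vec) = Pi.single i a) : z = 1 ∨ z = negC := by
  have h1 := sq_smulL z (fr none)
  rw [h, sq_fr, sq_single] at h1
  have h2 : ∀ (v : LL) j, 8 * ((z • v : LL) : Vec) j = (v : Vec) j * a := by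
    intro v j
    rw [coord_of_fr]
    simp only [h, Pi.single_apply, mul_ite, mul_zero, sum_ite_eq, mem_univ, if_true]
  rcases sq_eq_sq_iff_eq_or_eq_neg.1 (h1.trans (by decide : (64 : ℤ) = 8 ^ 2)) with rfl | rfl
  · left
    refine co0_ext fun v => ?_
    ext j; have := h2 v j; rw [one_smul]; omega
  · right
    refine co0_ext fun v => ?_
    ext j; have := h2 v j; rw [negC_smul, AddSubgroup.coe_neg, Pi.neg_apply]; omega

theorem mem_center_iff {z : Co0} : z ∈ Subgroup.center Co0 ↔ z = 1 ∨ z = negC := by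
  constructor
  · intro hz
    have hc : ∀ (g : Co0) (v : LL), z • g • v = g • z • v := fun g v => by
      rw [smul_smul, smul_smul, Subgroup.mem_center_iff.1 hz g]
    refine pm_of_diag (a := ((z • fr none : LL) : Vec) none) fun i => ?_
    funext j
    by_cases h : j = i
    · subst h
      obtain ⟨σ, rfl⟩ := tr1 none j
      have h1 := hc (mono σ ⟨∅, CC_empty⟩) (fr none)
      rw [mono_fr, if_neg (notMem_empty _)] at h1
      rw [h1, mono_apply, if_neg (notMem_empty _), Pi.single_eq_same]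
    · obtain ⟨c, hc1, hc2, hc3⟩ := exists_sep (Ne.symm h)
      have h1 := hc (mono 1 ⟨c, hc1⟩) (fr i)
      rw [mono_fr, one_smul, if_neg hc3] at h1
      have h2 := mono_apply 1 ⟨c, hc1⟩ (z • fr i) j
      rw [← h1, one_smul, if_pos hc2] at h2
      rw [Pi.single_eq_of_ne h]; omega
  · rintro (rfl | rfl)
    · exact one_mem _
    · exact Subgroup.mem_center_iff.2 negC_comm

theorem card_center : Nat.card (Subgroup.center Co0) = 2 := by
  have : (Subgroup.center Co0 : Set Co0) = {1, negC} := by ext z; simp [mem_center_iff]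
  rw [← SetLike.coe_sort_coe, this, Nat.card_coe_set_eq, Set.ncard_pair negC_ne_one.symm]

end H6
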