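import Cfsg.Agent.H6.LMod

/-! A model together with the order of the group. -/

namespace H6
open H0

structure MC (G : Type) [Group G] (R : BN.Rep) (c : ℕ) where
  m : Model G
  hR : m.R = R
  card : Nat.card G = c

noncomputable def MC.congr {G G' : Type} [Group G] [Group G'] {R : BN.Rep} {c : ℕ} (P : MC G R c) (e : G ≃* G') :
    MC G' R c := ⟨congrM P.m e, P.hR, (Nat.card_congr e.toEquiv).symm.trans P.card⟩

end H6
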