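import Cfsg.Agent.H6.AMod
import Cfsg.Agent.H6.LFrame

/-! Permutation models of subgroups of `Co0` on classes of lattice vectors modulo 2. -/

namespace H6
open Cfsg Finset H0 MulAction

def b2 (b : Bool) : ZMod 2 := if b then 1 else 0

theorem b2_inj {a b : Bool} (h : b2 a = b2 b) : a = b := by revert h; cases a <;> cases b <;> decide

theorem b2_xlin (f : ℕ → ℕ) (n k j : ℕ) :
    b2 ((xlin f n k).testBit j) = ∑ i ∈ range k, b2 (n.testBit i) * b2 ((f i).testBit j) := by
  induction k with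
  | zero => simp [xlin, b2]
  | succ k ih =>
    rw [xlin_succ, sum_range_succ, ← ih, Nat.testBit_xor]
    cases (xlin f n k).testBit j <;> cases n.testBit k <;> cases h : (f k).testBit j <;> simp [b2, h]
    rfl

theorem testBit_lane (w X i : ℕ) {j : ℕ} (hj : j < w) : (lane w X i).testBit j = X.testBit (i * w + j) := by
  show (X >>> (w * i) % 2 ^ w).testBit j = _
  rw [Nat.testBit_mod_two_pow, Nat.testBit_shiftRight, mul_comm]; simp [hj]

theorem kap_smul_eq (k : Co0) (x : LL) (q : GolayPt) : kap (k • x) q = ∑ p, kap x p * kap (k • bv p) q := by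
  unfold kap
  rw [smul_expand, co_lin]; push_cast; rfl

theorem kap_bv (p q : GolayPt) : kap (bv p) q = if p = q then 1 else 0 := by
  unfold kap; rw [co_bv]; split_ifs <;> rfl

theorem kap_add (x y : LL) : kap (x + y) = kap x + kap y := by
  funext q; unfold kap; rw [co_add]; push_cast; rfl

/-- the point with number `j` -/
noncomputable def ptv (N PT j : ℕ) : LL := ∑ q, (if PT.testBit (idx q * N + j) then 1 else 0 : ℤ) • bv q

theorem kap_ptv (N PT j : ℕ) (q : GolayPt) : kap (ptv N PT j) q = b2 (PT.testBit (idx q * N + j)) := by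
  unfold kap ptv b2; rw [co_sum]; split_ifs <;> rfl

def fixM (mask : ℕ) : Subgroup Co0 where
  carrier := {k | ∀ p, mask.testBit (idx p) = true → k • bv p = bv p}
  one_mem' := fun _ _ => one_smul _ _
  mul_mem' := fun ha hb p hp => by rw [mul_smul, hb p hp, ha p hp]
  inv_mem' := fun ha p hp => inv_smul_eq_iff.2 (ha p hp).symm

noncomputable def ld (mask N n PT : ℕ) : AD Co0 LL where
  r x y := ∀ q, mask.testBit (idx q) = false → kap x q = kap y q
  eqv := ⟨fun _ _ _ => rfl, fun h q hq => (h q hq).symm, fun h h' q hq => (h q hq).trans (h' q hq)⟩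
  F := fixM mask
  inv k hk a b h q hq := by
    rw [kap_smul_eq, kap_smul_eq]
    refine sum_congr rfl fun p _ => ?_
    cases hp : mask.testBit (idx p)
    · rw [h p hp]
    · rw [hk p hp, kap_bv, if_neg (by rintro rfl; rw [hp] at hq; cases hq), mul_zero, mul_zero]
  n := n
  p := ptv N PT

theorem ld0_r {N n PT : ℕ} {x y : LL} : (ld 0 N n PT).r x y ↔ kap x = kap y :=
  ⟨fun h => funext fun q => h q (Nat.zero_testBit _), fun h _ _ => by rw [h]⟩

theorem fixM_zero : fixM 0 = ⊤ := top_le_iff.1 fun _ _ _ h => by simp at h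

theorem mem_fixM_pow {j : ℕ} (hj : j < 24) {k : Co0} : k ∈ fixM (2 ^ j) ↔ k • bv (pt j) = bv (pt j) := by
  constructor
  · intro h; exact h _ (by rw [idx_pt hj, Nat.testBit_two_pow_self])
  · intro h p hp
    rw [Nat.testBit_two_pow, decide_eq_true_iff] at hp
    rw [← pt_idx p, ← hp, h]

theorem ld_pow_r {j N n PT : ℕ} (hj : j < 24) {x y : LL} :
    (ld (2 ^ j) N n PT).r x y ↔ kap x = kap y ∨ kap x = kap (y + bv (pt j)) := by
  have e : ∀ q, (2 ^ j).testBit (idx q) = false ↔ pt j ≠ q := by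
    intro q
    rw [Nat.testBit_two_pow, decide_eq_false_iff_not]
    exact not_congr ⟨fun h => by rw [h, pt_idx], fun h => by rw [← h, idx_pt hj]⟩
  show (∀ q, _ → kap x q = kap y q) ↔ _
  simp only [e, funext_iff, kap_add, Pi.add_apply, kap_bv]
  constructor
  · intro h
    by_cases h1 : kap x (pt j) = kap y (pt j)
    · left; intro q; by_cases h2 : pt j = q
      · exact h2 ▸ h1
      · exact h q h2
    · right; intro q; by_cases h2 : pt j = q
      · subst h2; rw [if_pos rfl]; revert h1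
        generalize kap x (pt j) = a; generalize kap y (pt j) = b; revert a b; decide
      · rw [if_neg h2, add_zero]; exact h q h2
  · rintro (h | h) q hq
    · exact h q
    · rw [h q, if_neg hq, add_zero]

noncomputable def plOK (mask N PT M : ℕ) (t : BN.Net) : Bool :=
  BN.app N 24 (fun Y => allLt 24 fun q => tb mask q || Nat.beq (lane N Y q) (xlin (lane N PT) (lane 24 M q) 24)) t PT

noncomputable def fxOK (mask W : ℕ) : Bool := allLt 24 fun p => !tb mask p || Nat.beq (row W p) (row bT p)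

theorem good {mask lg N n PT W M : ℕ} {t : BN.Net} (hN : N = 2 ^ lg) (hn : n ≤ N) (ht : t.ok N = true)
    (h1 : (isA W M && fxOK mask W) = true) (h2 : plOK mask N PT M t = true) (h3 : outOK lg N n t = true) :
    IsA W ∧ (ld mask N n PT).Cmp (eA W) t.perm := by
  rw [Bool.and_eq_true] at h1
  obtain ⟨h4, h5⟩ := outOK_spec hN ht h3
  refine ⟨isA_spec h1.1, fun p hp => Subtype.ext ?_, fun j hj => ⟨h5 j hj, fun q hq => ?_⟩, h4⟩
  · have := allLt_iff.1 h1.2 _ (idx_lt p)
    rw [tb_eq, hp] at this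
    rw [eA_bv (isA_spec h1.1), Nat.eq_of_beq_eq_true this]; rfl
  · unfold plOK at h2
    obtain ⟨Y, h6, h7⟩ := BN.app_spec (w := 24) (fun Y => allLt 24 fun q => tb mask q ||
      Nat.beq (lane N Y q) (xlin (lane N PT) (lane 24 M q) 24)) t ht PT
    rw [h6] at h2
    have h8 := allLt_iff.1 h2 _ (idx_lt q)
    rw [tb_eq, hq] at h8
    have hj' : j < N := lt_of_lt_of_le hj hn
    show kap (eA W • ptv N PT j) q = kap (ptv N PT _) q
    rw [kap_ptv, ← h7 _ (idx_lt q) j hj', ← testBit_lane _ _ _ hj', Nat.eq_of_beq_eq_true h8, b2_xlin, kap_smul_eq,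
      sum_pt]
    refine sum_congr rfl fun i hi => ?_
    rw [kap_ptv, idx_pt (mem_range.1 hi), testBit_lane _ _ _ hj', mul_comm]
    congr 1
    have := eA_par h1.1 (pt i) q
    rw [idx_pt (mem_range.1 hi)] at this
    unfold kap b2
    rw [← ZMod.intCast_mod _ 2, Nat.cast_ofNat, this]
    split_ifs <;> rfl

/-- the letters -/
noncomputable def gL (Ws : List ℕ) (x : ℕ) : Co0 := (Ws.map eA).getD x 1

theorem gL_mem {Ws : List ℕ} {K : Subgroup Co0} (h : ∀ W ∈ Ws, eA W ∈ K) (x : ℕ) : gL Ws x ∈ K := by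
  unfold gL
  rw [List.getD_eq_getElem?_getD]
  cases e : (Ws.map eA)[x]? with
  | none => exact one_mem _
  | some k =>
    obtain ⟨W, hW, rfl⟩ := List.mem_map.1 (List.mem_of_getElem? e)
    exact h W hW

def Good (D : AD Co0 LL) (Ws : List ℕ) (nl : List BN.Net) : Prop :=
  List.Forall₂ (fun W t => IsA W ∧ D.Cmp (eA W) t.perm) Ws nl

theorem Good.cmp' {D : AD Co0 LL} {Ws : List ℕ} {nl : List BN.Net} (h : Good D Ws nl) (x : ℕ) :
    D.Cmp (gL Ws x) (netsOf nl x).perm := by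
  induction h generalizing x with
  | nil => exact AD.Cmp.one
  | cons h _ ih => cases x with
    | zero => exact h.2
    | succ x => exact ih x

theorem Good.cmp {D : AD Co0 LL} {Ws : List ℕ} {nl : List BN.Net} (h : Good D Ws nl) {lg N : ℕ} (hN) (hl) (x : ℕ) :
    D.Cmp (gL Ws x) ((mkRep lg N nl hN hl).p x) := h.cmp' x

theorem Good.isA {D : AD Co0 LL} {Ws : List ℕ} {nl : List BN.Net} (h : Good D Ws nl) : ∀ W ∈ Ws, IsA W := by
  induction h with
  | nil => simp
  | cons h _ ih => intro W hW; rcases List.mem_cons.1 hW with rfl | hW; exacts [h.1, ih W hW]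

/-- the letters with numbers in `xs` fix the vector with code `t` -/
noncomputable def fixA (Ws : List ℕ) (xs : List ℕ) (t : ℕ) : Bool :=
  allL (fun x => Nat.blt x Ws.length && mapsA (Ws.getD x 0) t t) xs

theorem gL_eq {Ws : List ℕ} {x : ℕ} (h : x < Ws.length) : gL Ws x = eA (Ws.getD x 0) := by
  simp [gL, h]

theorem maps_gL {Ws : List ℕ} (hA : ∀ W ∈ Ws, IsA W) {x s t : ℕ}
    (h : (Nat.blt x Ws.length && mapsA (Ws.getD x 0) s t) = true) {a b : LL} (ha : (a : Vec) = vz s)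
    (hb : (b : Vec) = vz t) : gL Ws x • a = b := by
  rw [Bool.and_eq_true, Nat.blt_eq] at h
  rw [gL_eq h.1]
  exact mapsA_spec (hA _ (by rw [List.getD_eq_getElem _ _ h.1]; exact List.getElem_mem _)) h.2 ha hb

theorem fixA_spec {Ws : List ℕ} (hA : ∀ W ∈ Ws, IsA W) {xs : List ℕ} {t : ℕ} (h : fixA Ws xs t = true) {a : LL}
    (ha : (a : Vec) = vz t) : ∀ x ∈ xs, gL Ws x ∈ stabilizer Co0 a := fun x hx =>
  maps_gL hA (allL_iff.1 h x hx) ha ha

theorem fix_all {Ws : List ℕ} (hA : ∀ W ∈ Ws, IsA W) {t : ℕ} (h : allL (fun W => mapsA W t t) Ws = true) {a : LL}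
    (ha : (a : Vec) = vz t) (x : ℕ) : gL Ws x ∈ stabilizer Co0 a :=
  gL_mem (fun W hW => mapsA_spec (hA W hW) (allL_iff.1 h W hW) ha ha) x

noncomputable def uqOK (mask N n PT a : ℕ) : Bool :=
  Nat.beq (Nat.land (Nat.lor (orLt 24 fun q => Bool.rec (Nat.xor (lane N PT q)
    (Nat.mul (bit PT (Nat.add (Nat.mul q N) a)) (BN.ival 0 N))) 0 (tb mask q)) (Nat.pow 2 a)) (BN.ival 0 n))
    (BN.ival 0 n)

theorem uqOK_spec {mask N n PT a : ℕ} (hn : n ≤ N) (h : uqOK mask N n PT a = true) :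
    (ld mask N n PT).UniqAt a := by
  intro ha i hi hr
  have hi' : i < N := lt_of_lt_of_le hi hn
  have h1 := congrArg (fun x => x.testBit i) (Nat.eq_of_beq_eq_true h)
  have h2 : (BN.ival 0 n).testBit i = true := (BN.ival_spec _ _ _).2 ⟨by omega, (Nat.zero_add n).symm ▸ hi⟩
  have h3 : ((orLt 24 (fun q => Bool.rec (Nat.xor (lane N PT q) (Nat.mul (bit PT (Nat.add (Nat.mul q N) a))
    (BN.ival 0 N))) 0 (tb mask q)) ||| 2 ^ a) &&& BN.ival 0 n).testBit i = true := h1.trans h2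
  rw [Nat.testBit_and, Nat.testBit_or, Bool.and_eq_true, Bool.or_eq_true, Nat.testBit_two_pow] at h3
  rcases h3.1 with h4 | h4
  swap
  · exact (of_decide_eq_true h4).symm
  exfalso
  obtain ⟨q, hq, h5⟩ := testBit_orLt h4
  rw [tb_eq] at h5
  cases hm : mask.testBit q
  swap
  · rw [hm] at h5; simp at h5
  rw [hm] at h5
  have h6 : (lane N PT q ^^^ bit PT (q * N + a) * BN.ival 0 N).testBit i = true := h5
  have h7 : kap (ptv N PT i) (pt q) = kap (ptv N PT a) (pt q) := hr (pt q) (by rw [idx_pt hq, hm])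
  rw [kap_ptv, kap_ptv, idx_pt hq] at h7
  have h8 : (BN.ival 0 N).testBit i = true := (BN.ival_spec _ _ _).2 ⟨by omega, by omega⟩
  rw [Nat.testBit_xor, testBit_lane _ _ _ hi', b2_inj h7, bit_eq] at h6
  cases h9 : PT.testBit (q * N + a) <;> simp [h9, h8] at h6

noncomputable def orL (l : List ℕ) : ℕ :=
  List.rec (motive := fun _ => ℕ) 0 (fun a _ ih => Nat.lor (Nat.pow 2 a) ih) l

theorem testBit_orL {l : List ℕ} {j : ℕ} (h : (orL l).testBit j = true) : j ∈ l := by
  induction l with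
  | nil => simp [orL] at h
  | cons a l ih =>
    have e : orL (a :: l) = 2 ^ a ||| orL l := rfl
    rw [e, Nat.testBit_or, Bool.or_eq_true, Nat.testBit_two_pow] at h
    rcases h with h | h
    · simp [of_decide_eq_true h]
    · exact List.mem_cons_of_mem _ (ih h)

theorem ld_inj {mask n PT : ℕ} {R : BN.Rep} {g : ℕ → Co0} (h : ∀ x, (ld mask R.N n PT).Cmp (g x) (R.p x))
    (hn : n ≤ R.N) (reps : List ℕ) (h1 : allL (uqOK mask R.N n PT) reps = true) (prog : List (List ℕ))
    (h2 : BN.grow R (fun T => Nat.beq (Nat.land T (BN.ival 0 n)) (BN.ival 0 n)) prog (orL reps) = true) :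
    (ld mask R.N n PT).Inj :=
  AD.inj_of_grow h hn _ (fun j hj => uqOK_spec hn (allL_iff.1 h1 j (testBit_orL hj))) prog h2

/-- the vector with code `t` lies in the class with number `j` -/
noncomputable def ptOK (mask N n PT t j : ℕ) : Bool :=
  isLe t && Nat.blt j n && allLt 24 fun q => tb mask q ||
    Nat.beq (Nat.mod (Nat.div (dN t (row dT q)) 8) 2) (bit PT (Nat.add (Nat.mul q N) j))

theorem ptOK_spec {mask N n PT t j : ℕ} (h : ptOK mask N n PT t j = true) {a : LL} (ha : (a : Vec) = vz t) :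
    j < n ∧ (ld mask N n PT).r a ((ld mask N n PT).p j) := by
  simp only [ptOK, Bool.and_eq_true, Nat.blt_eq] at h
  refine ⟨h.1.2, fun q hq => ?_⟩
  have h1 := allLt_iff.1 h.2 _ (idx_lt q)
  rw [tb_eq, hq] at h1
  have h2 : dN t (row dT (idx q)) / 8 % 2 = bit PT (idx q * N + j) := Nat.eq_of_beq_eq_true h1
  have h3 := dN_eq t (row dT (idx q))
  have h4 : 8 * co a q = dotInt (vz t) (vz (row dT (idx q))) := by rw [eight_co, ha]; rfl
  show _ = kap (ptv N PT j) q
  rw [kap_ptv, kap, ← ZMod.intCast_mod _ 2, Nat.cast_ofNat, b2]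
  rw [bit_eq] at h2
  split_ifs at h2 ⊢
  · rw [show co a q % 2 = 1 by omega]; rfl
  · rw [show co a q % 2 = 0 by omega]; rfl

theorem ptOK_vL {mask N n PT t j : ℕ} (h : ptOK mask N n PT t j = true) : (vL t : Vec) = vz t := by
  simp only [ptOK, Bool.and_eq_true] at h
  exact vL_coe h.1.1

theorem negC_cmp (N n PT : ℕ) : (ld 0 N n PT).Cmp negC 1 :=
  ⟨by show _ ∈ fixM 0; rw [fixM_zero]; trivial, fun _ hj => ⟨hj, ld0_r.2 (kap_neg _)⟩, fun _ _ => rfl⟩

theorem orb_le2 {N n PT : ℕ} {H : Type} [Group H] (m : AM (ld 0 N n PT) H) {K : Subgroup H} {K' : Subgroup Co0}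
    (hK : ∀ k ∈ K, m.ρ k ∈ K') (hn : negC ∈ K') {j : ℕ} (hj : j < n) {a : LL} (h0 : a ≠ 0)
    (h : (ld 0 N n PT).r a ((ld 0 N n PT).p j)) : 2 * (m.orb K j).ncard ≤ (orb K' a).ncard := by
  let r : LL → LL → Prop := WellOrderingRel
  have h1 := m.orb_rel hK hj h
  have hf := orb_finite K' a
  have hs := ncard_split hf (fun x => r x (-x)) True
  have hneg : ∀ b ∈ orb K' a, -b ∈ orb K' a ∧ (r b (-b) ∧ ¬ r (-b) b ∨ r (-b) b ∧ ¬ r b (-b)) := fun b hb => by
    refine ⟨smul_mem_orb hn hb, ?_⟩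
    rcases trichotomous_of r b (-b) with h4 | h4 | h4
    · exact Or.inl ⟨h4, asymm_of r h4⟩
    · exact absurd h4.symm (neg_ne (by obtain ⟨g, -, rfl⟩ := hb; exact (smul_ne_zero_iff_ne g).2 h0))
    · exact Or.inr ⟨h4, asymm_of r h4⟩
  have h2 := m.card_le (fun i hi => (h1 i hi).1) (A := {x ∈ orb K' a | r x (-x) = True})
    (hf.subset fun x h => h.1) fun i hi => by
      obtain ⟨b, hb, h3⟩ := (h1 i hi).2
      rcases (hneg b hb).2 with h4 | h4
      · exact ⟨b, ⟨hb, eq_true h4.1⟩, h3⟩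
      · exact ⟨-b, ⟨(hneg b hb).1, eq_true (by rw [neg_neg]; exact h4.1)⟩, ld0_r.2 ((kap_neg b).trans (ld0_r.1 h3))⟩
  have h3 := m.card_le (fun i hi => (h1 i hi).1) (A := {x ∈ orb K' a | r x (-x) ≠ True})
    (hf.subset fun x h => h.1) fun i hi => by
      obtain ⟨b, hb, h3⟩ := (h1 i hi).2
      rcases (hneg b hb).2 with h4 | h4
      · exact ⟨-b, ⟨(hneg b hb).1, fun e => h4.2 (by simpa using e)⟩, ld0_r.2 ((kap_neg b).trans (ld0_r.1 h3))⟩
      · exact ⟨b, ⟨hb, fun e => h4.2 (of_eq_true e)⟩, h3⟩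
  omega

/-- stabiliser of the pair `± a` -/
def pmS (a : LL) : Subgroup Co0 where
  carrier := {g | g • a = a ∨ g • a = -a}
  one_mem' := Or.inl (one_smul _ _)
  mul_mem' := by
    rintro g h (h1 | h1) (h2 | h2) <;> simp only [Set.mem_ofPred_eq, mul_smul, h1, h2, smul_neg, neg_neg] <;> simp
  inv_mem' := by
    rintro g (h | h)
    · exact Or.inl (inv_smul_eq_iff.2 h.symm)
    · exact Or.inr (inv_smul_eq_iff.2 (by rw [smul_neg, h, neg_neg]))

theorem negC_pmS (a : LL) : negC ∈ pmS a := Or.inr rfl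
theorem stab_le_pmS (a : LL) : stabilizer Co0 a ≤ pmS a := fun _ h => Or.inl h

def minV : Set LL := {x | sqNorm (x : Vec) = 32}

theorem minV_inv (g : Co0) {x : LL} (h : x ∈ minV) : g • x ∈ minV := (sq_smulL g x).trans h

/-- orbits of the stabiliser of `a` on the minimal vectors -/
theorem pm_decomp (a : LL) (L : List (LL × ℕ)) (hL : ∀ z ∈ L, z.1 ∈ minV ∧ 2 * z.2 ≤ (orb (pmS a) z.1).ncard)
    (hn : (L.map fun z => |dotInt (a : Vec) (z.1 : Vec)|).Nodup) (hs : 98280 ≤ (L.map fun z => z.2).sum) :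
    ∀ z ∈ L, {x ∈ minV | |dotInt (a : Vec) (x : Vec)| = |dotInt (a : Vec) (z.1 : Vec)|}.ncard = 2 * z.2 ∧
      (∀ x ∈ minV, ∀ y ∈ minV, |dotInt (a : Vec) (x : Vec)| = |dotInt (a : Vec) (z.1 : Vec)| →
        dotInt (a : Vec) (y : Vec) = dotInt (a : Vec) (x : Vec) →
        ∃ g : Co0, g • a = a ∧ (g • x = y ∨ (g • x = -y ∧ dotInt (a : Vec) (x : Vec) = 0))) ∧
      ∀ t : ℤ, t ≠ 0 → |t| = |dotInt (a : Vec) (z.1 : Vec)| →
        {x ∈ minV | dotInt (a : Vec) (x : Vec) = t}.ncard = z.2 := by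
  have key := (decomp (K := pmS a) (f := fun x : LL => |dotInt (a : Vec) (x : Vec)|) (by
      rintro g (h | h) x
      · conv_lhs => rw [← h, dot_smulL]
      · rw [← abs_neg, ← dot_neg, ← AddSubgroup.coe_neg, ← h, dot_smulL])
    (L.map fun z => (z.1, 2 * z.2)) (A := minV) (finite_sqL 32) (fun g _ x => minV_inv g)
    (fun z hz => by obtain ⟨y, hy, rfl⟩ := List.mem_map.1 hz; exact hL y hy) (by rw [List.map_map]; exact hn) (by
      rw [List.map_map, show minV.ncard = 196560 from ncardL_32]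
      have : (L.map ((fun z : LL × ℕ => z.2) ∘ fun z => (z.1, 2 * z.2))).sum = 2 * (L.map fun z => z.2).sum := by
        rw [← List.sum_map_mul_left]; rfl
      omega)).1
  intro z hz
  obtain ⟨h1, h2⟩ := key _ (List.mem_map_of_mem hz)
  simp only at h1 h2
  refine ⟨h1 ▸ h2, fun x hx y hy h3 h4 => ?_, fun t ht h3 => ?_⟩
  · obtain ⟨g, hg | hg, h5⟩ := orb_trans (h1.ge ⟨hx, h3⟩) (h1.ge ⟨hy, h4 ▸ h3⟩)
    · exact ⟨g, hg, Or.inl h5⟩
    · refine ⟨negC * g, by rw [mul_smul, hg, negC_smul, neg_neg], Or.inr ⟨by rw [mul_smul, h5, negC_smul], ?_⟩⟩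
      have := dot_smulL g a x
      rw [hg, h5, AddSubgroup.coe_neg, dot_neg] at this
      omega
  · have hf : (orb (pmS a) z.1).Finite := orb_finite _ _
    have h4 := ncard_split hf (fun x : LL => dotInt (a : Vec) (x : Vec)) t
    have h5 : {x ∈ orb (pmS a) z.1 | dotInt (a : Vec) (x : Vec) = t} = {x ∈ minV | dotInt (a : Vec) (x : Vec) = t} := by
      rw [h1]; ext x
      exact ⟨fun h => ⟨h.1.1, h.2⟩, fun h => ⟨⟨h.1, h.2 ▸ h3⟩, h.2⟩⟩
    have h6 : {x ∈ orb (pmS a) z.1 | dotInt (a : Vec) (x : Vec) ≠ t}.ncard =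
        {x ∈ minV | dotInt (a : Vec) (x : Vec) = t}.ncard := by
      refine ncard_transport negC fun x => ?_
      rw [h1]
      simp only [negC_smul, Set.mem_ofPred_eq, AddSubgroup.coe_neg, dot_neg', abs_neg, ← h3, minV, sq_neg]
      constructor
      · rintro ⟨⟨h7, h8⟩, h9⟩
        exact ⟨h7, (abs_eq_abs.1 h8).resolve_right fun e => h9 (by omega)⟩
      · rintro ⟨h7, h8⟩
        exact ⟨⟨h7, by rw [h8]⟩, by omega⟩
    rw [h5, h6] at h4
    omega

end H6
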