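import Cfsg.Agent.H6.LRb

/-! Maximality of the monomial group. -/

namespace H6
open Cfsg H0 H6M MulAction
set_option maxRecDepth 100000

open Classical in
theorem ncard_inv {G X T : Type*} [Group G] [MulAction G X] {K : Subgroup G} {f : X → T}
    (hf : ∀ g ∈ K, ∀ x, f (g • x) = f x) (L : List (X × ℕ)) {A : Set X} (hA : A.Finite)
    (hK : ∀ g ∈ K, ∀ x ∈ A, g • x ∈ A) (hL : ∀ z ∈ L, z.1 ∈ A ∧ z.2 ≤ (orb K z.1).ncard)
    (hn : (L.map fun z => f z.1).Nodup) (hs : A.ncard ≤ (L.map fun z => z.2).sum) {B : Set X} (hB : B ⊆ A)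
    (hKB : ∀ g ∈ K, ∀ x ∈ B, g • x ∈ B) : B.ncard = (L.map fun z => if z.1 ∈ B then z.2 else 0).sum := by
  have h1 := (decomp_aux hf (L.filter fun z => z.1 ∈ B) (hA.subset hB) hKB (fun z hz => by
    rw [List.mem_filter, decide_eq_true_eq] at hz; exact ⟨hz.2, (hL z hz.1).2⟩)
    (hn.sublist (List.filter_sublist.map _))).1
  have h2 := (decomp_aux hf (L.filter fun z => z.1 ∉ B) (A := A \ B) (hA.subset Set.sdiff_subset)
    (fun g hg x hx => ⟨hK g hg x hx.1, fun h => hx.2 (by simpa using hKB _ (inv_mem hg) _ h)⟩) (fun z hz => by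
    rw [List.mem_filter, decide_eq_true_eq] at hz; exact ⟨⟨(hL z hz.1).1, hz.2⟩, (hL z hz.1).2⟩)
    (hn.sublist (List.filter_sublist.map _))).1
  have h3 := Set.ncard_sdiff_add_ncard_of_subset hB hA
  have h4 : ∀ L : List (X × ℕ), ((L.filter fun z => z.1 ∈ B).map fun z => z.2).sum =
      (L.map fun z => if z.1 ∈ B then z.2 else 0).sum ∧ ((L.filter fun z => z.1 ∈ B).map fun z => z.2).sum +
      ((L.filter fun z => z.1 ∉ B).map fun z => z.2).sum = (L.map fun z => z.2).sum := by
    intro L
    induction L with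
    | nil => simp
    | cons z L ih => by_cases h : z.1 ∈ B <;> simp [h] at ih ⊢ <;> omega
  have := h4 L
  omega

theorem prim_step {G X : Type*} [Group G] [Finite G] [MulAction G X] {P L : Subgroup G} (hLP : L ≤ P) {a : X}
    (hst : P ⊓ stabilizer G a ≤ L) :
    (orb L a).ncard ∣ (orb P a).ncard ∧ ((orb L a).ncard = (orb P a).ncard → L = P) := by
  have h1 := card_orb L a
  have h2 := card_orb P a
  rw [show L ⊓ stabilizer G a = P ⊓ stabilizer G a from
    le_antisymm (inf_le_inf_right _ hLP) (le_inf hst inf_le_right)] at h1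
  have h3 := Subgroup.card_dvd_of_le hLP
  refine ⟨?_, fun h => Subgroup.eq_of_le_of_card_ge hLP (by rw [h1, h2, h])⟩
  rw [h1, h2] at h3
  exact Nat.dvd_of_mul_dvd_mul_right Nat.card_pos h3

noncomputable def q4 (x : LL) : ℤ := ∑ i, (x : Vec) i ^ 4

theorem q4_inv (g : Co0) (hg : g ∈ frameG) (x : LL) : q4 (g • x) = q4 x := by
  obtain ⟨σ, c, rfl⟩ := mem_frameG_iff.1 hg
  unfold q4
  rw [← Equiv.sum_comp (σ : Equiv.Perm GolayPt) fun i => ((mono σ c • x : LL) : Vec) i ^ 4]
  refine Finset.sum_congr rfl fun i _ => ?_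
  rw [show (σ : Equiv.Perm GolayPt) i = σ • i from rfl, mono_apply]
  split_ifs
  · ring
  · rfl

theorem q4L {t : ℕ} {z : ℤ} (h : (isLe t && decide (∑ i, vz t i ^ 4 = z)) = true) : q4 (vL t) = z := by
  rw [Bool.and_eq_true, decide_eq_true_eq] at h
  rw [q4, vL_coe h.1, h.2]

theorem fr_eq : fr none = lU + lU' := by
  apply Subtype.ext
  rw [AddSubgroup.coe_add, leechU_eq, leechU'_eq]
  exact funext (forall_pt (by decide +kernel))

theorem kap_pmS {a : LL} {g : Co0} (h : g ∈ pmS a) : kap (g • a) = kap a := by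
  rcases h with h | h
  · rw [h]
  · rw [h, kap_neg]

theorem Q_le : pmS lU ⊓ pmS lU' ≤ frameG := fun g hg => by
  rw [mem_frameG, fr_eq, smul_add, kap_add, kap_add, kap_pmS hg.1, kap_pmS hg.2]

theorem abs_pmS {a : LL} {g : Co0} (h : g ∈ pmS a) (x : LL) :
    |dotInt (a : Vec) ((g • x : LL) : Vec)| = |dotInt (a : Vec) (x : Vec)| := by
  rcases h with h | h
  · conv_lhs => rw [← h, dot_smulL]
  · rw [← abs_neg, ← dot_neg, ← AddSubgroup.coe_neg, ← h, dot_smulL]

def qW : List (List ℕ) := [[3, 4, 3, 4, 3, 3, 4, 4, 3, 3, 3, 3, 3, 3, 4, 3], [3, 3, 4, 3, 3, 3, 3, 3, 4, 3, 4, 3, 4, 3, 4, 3, 4, 4, 3]]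
theorem qm0 : mpC [3, 4, 3, 4, 3, 3, 4, 4, 3, 3, 3, 3, 3, 3, 4, 3] tU' 0x84808080808080808080808080808080808080808080807c [0x84808080808080808080808080808080808080808080807c, 0x8080807e8080808080808080807e828282807e82807e8080, 0x7f7f817f7f7f817f7f817f817f818181817f818381817f81, 0x80807e8080808080808080807e7e7e7e807e828082808080, 0x817f7f817f7f7f7f81817f7f7f7f7f7f8181817f7f7d7f7f, 0x80808280808080807e807e807e8082828280807e80808080, 0x8080808080808080808080808080808080808480807c8080, 0x817f8181817f7f8181817f817f7d818181817f81817f817f, 0x7f7f817f7f7f7f7f7f81817f7f7f7f7f817f818183817f81, 0x808080828080808080807e807e7e7e807e80808082807e80, 0x817f81817f7f7f7f7f7d7f7f7f7f817f7f817f7f817f817f, 0x7e80808080828080807e7e808080828080828080807e8082, 0x8080808080828080808080828082807e8082827e80808280, 0x808080828082807e8082828280808280808080807e808080, 0x817f81818181817f8181817f8181817f837f818181817f7f, 0x808280808282828080828080807e80808080828080807e80] = true := by decide +kernel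
theorem qm1 : mpC [3, 3, 4, 3, 3, 3, 3, 3, 4, 3, 4, 3, 4, 3, 4, 3, 4, 4, 3] tU' 0x7c8080808080808080808080808080808080808080808084 [0x7c8080808080808080808080808080808080808080808084, 0x80808082808080808080808080827e7e7e80827e80828080, 0x807e80828080807e80808080808082807e7e7e807e808080, 0x808082808080808080808280808282808082807e80827e80, 0x80808082808082808280808280828080807e8082807e8080, 0x807e7e80808080808080827e7e8080808280808080828280, 0x7f81818181817f7f81817f7f817f7d81817f7f7f7f7f7f81, 0x817f8181817d7f817f817f7f818181817f81817f8181817f, 0x7f817f7f7f7f817f7f817f7f7f81817f7f7f7f817f7d7f81, 0x80808080807e808280807e80808282828282808080808080, 0x7f817f7f7f7f81817f8181817f817f7f817f817f7f7d8181, 0x817f7d81817f7f8181817f817f81818181817f81817f817f, 0x7f81817f7f7f817f7f81817f7f7f7f7f83817f7f7f7f8181, 0x80807e8082808080808080807e8280808280828280808280, 0x80807e808080807e80828080807e7e808280807e7e808080, 0x817f7f81817f817f818181817f817f7f837f817f7f81817f, 0x80808082808080808082807e807e8082827e80807e808080,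 0x817f81818181817f8181817f8181817f837f818181817f7f, 0x808280808282828080828080807e80808080828080807e80] = true := by decide +kernel
theorem qo2464 : Model.growP MCo1.R qW [0, 1, 0, 1, 0, 1, 0, 1, 0, 1, 0, 1, 0, 1, 0, 1, 0, 1, 0] 4601 2464 = true := by decide +kernel
theorem qp2464 : ptOK 0 131072 98280 MCo1.PT 0x7e808080808082808082808080808080808082807e7e7e82 4601 = true := by decide +kernel
theorem qo22528 : Model.growP MCo1.R qW [0, 1, 0, 1, 0, 1, 0, 1, 0, 1, 0, 1, 0, 1, 0, 1, 0, 1, 0, 1, 0, 1, 0, 1, 0] 4604 22528 = true := by decide +kernel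
theorem qp22528 : ptOK 0 131072 98280 MCo1.PT 0x7f817f7f8181817f7f7f7f837f7f817f81817f7f7f7f7f81 4604 = true := by decide +kernel
theorem qo21120 : Model.growP MCo1.R qW [0, 1, 0, 1, 0, 1, 0, 1, 0, 1, 0, 1, 0, 1, 0, 1, 0, 1, 0, 1, 0, 1, 0, 1, 0] 4642 21120 = true := by decide +kernel
theorem qp21120 : ptOK 0 131072 98280 MCo1.PT 0x8082828280807e8080807e80808080828080808280828080 4642 = true := by decide +kernel
theorem qo462 : Model.growP MCo1.R qW [0, 1, 0, 1, 0, 1, 0, 1, 0, 1, 0, 1, 0, 1, 0, 1] 10320 462 = true := by decide +kernel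
theorem qp462 : ptOK 0 131072 98280 MCo1.PT 0x808080808084808080808080808080808084808080808080 10320 = true := by decide +kernel
theorem ho552 : Model.growP MCo1.R (qW ++ [[12]]) [2, 0, 1, 2, 0, 1, 2, 0, 1, 2, 0, 1, 2, 0, 0] 0 552 = true := by decide +kernel
theorem hp552 : ptOK 0 131072 98280 MCo1.PT 0x848080808080808080808080808080808080808080808084 0 = true := by decide +kernel
theorem ho49152 : Model.growP MCo1.R (qW ++ [[12]]) [0, 1, 2, 0, 1, 2, 0, 1, 2, 0, 1, 2, 0, 1, 2, 0, 1, 2, 0, 1, 2, 0] 3 49152 = true := by decide +kernel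
theorem hp49152 : ptOK 0 131072 98280 MCo1.PT 0x837f818181817f81817f81817f817f81817f7f8181818181 3 = true := by decide +kernel
theorem ho48576 : Model.growP MCo1.R (qW ++ [[12]]) [0, 1, 2, 0, 1, 2, 0, 1, 2, 0, 1, 2, 0, 1, 2, 0, 1, 2, 0, 1, 2, 0] 48 48576 = true := by decide +kernel
theorem hp48576 : ptOK 0 131072 98280 MCo1.PT 0x828080828080808280808082808080808082808082828082 48 = true := by decide +kernel

theorem qW_mem : ∀ w ∈ qW, ev (gL MCo1.Ws) w ∈ pmS lU ⊓ pmS lU' := by
  have h1 : ∀ w ∈ qW, ev (gL MCo1.Ws) w ∈ pmS lU := fun w hw =>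
    ev_mem_of_letters _ fun x hx => stab_le_pmS _ (fixA_spec MCo1.good.isA MCo1.f2 leechU_eq x
      ((by decide : ∀ w ∈ qW, ∀ x ∈ w, x ∈ [3, 4]) w hw x hx))
  have h2 : vL 0x7c8080808080808080808080808080808080808080808084 = -lU' := by
    apply Subtype.ext
    rw [vL_coe (by decide +kernel), AddSubgroup.coe_neg, leechU'_eq]
    exact funext (forall_pt (by decide +kernel))
  intro w hw
  refine ⟨h1 w hw, ?_⟩
  simp only [qW, List.mem_cons, List.not_mem_nil, or_false] at hw
  rcases hw with rfl | rfl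
  · left; rw [← vL_U']; exact mpC_spec qm0
  · right; rw [← h2, ← vL_U']; exact mpC_spec qm1

theorem g12_mem : ev (gL MCo1.Ws) [12] ∈ frameG := by
  have h2 : vL 0x888080808080808080808080808080808080808080808080 = fr none := by
    apply Subtype.ext
    rw [vL_coe (by decide +kernel)]
    exact funext (forall_pt (by decide +kernel))
  rw [mem_frameG, ← h2, mpC_spec (t := 0x888080808080808080808080808080808080808080808080)
    (cs := [0x888080808080808080808080808080808080808080808080]) (by decide +kernel)]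

theorem negC_frame : negC ∈ frameG := Q_le ⟨negC_pmS _, negC_pmS _⟩

theorem two_orb {K : Subgroup Co0} (hn : negC ∈ K) {a : LL} (h : a ∈ minV) : 2 ≤ (orb K a).ncard :=
  two_le_orb hn (ne_zero_of_sq h (by decide))

/-- overgroups of `Q` in the stabiliser of `± U` -/
theorem Q_max {L : Subgroup Co0} (h1 : pmS lU ⊓ pmS lU' ≤ L) (h2 : L ≤ pmS lU) : L ≤ frameG ∨ L = pmS lU := by
  classical
  have hn : negC ∈ pmS lU ⊓ pmS lU' := ⟨negC_pmS _, negC_pmS _⟩
  have hinv : ∀ g ∈ pmS lU, ∀ x ∈ {x ∈ minV | |dotInt (lU : Vec) (x : Vec)| = 0},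
      g • x ∈ {x ∈ minV | |dotInt (lU : Vec) (x : Vec)| = 0} :=
    fun g hg x hx => ⟨minV_inv g hx.1, (abs_pmS hg x).trans hx.2⟩
  have hU : lU' ∈ {x ∈ minV | |dotInt (lU : Vec) (x : Vec)| = 0} := ⟨sq_U', by rw [dot_UU']; rfl⟩
  have key : ∀ {B : Set LL}, B ⊆ _ → (∀ g ∈ pmS lU ⊓ pmS lU', ∀ x ∈ B, g • x ∈ B) → _ :=
    @ncard_inv _ _ _ _ _ (pmS lU ⊓ pmS lU') (fun x : LL => (|dotInt (lU' : Vec) (x : Vec)|, q4 x))
    (fun g hg x => by rw [abs_pmS hg.2, q4_inv g (Q_le hg)])
    [(lU', 2), (vL 0x808080808084808080808080808080808084808080808080, 2 * 462),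
      (vL 0x7e808080808082808082808080808080808082807e7e7e82, 2 * 2464),
      (vL 0x8082828280807e8080807e80808080828080808280828080, 2 * 21120),
      (vL 0x7f817f7f8181817f7f7f7f837f7f817f81817f7f7f7f7f81, 2 * 22528)]
    {x ∈ minV | |dotInt (lU : Vec) (x : Vec)| = 0} ((finite_sqL 32).subset fun _ h => h.1)
    (fun g hg => hinv g hg.1) (by
      have a1 := orbLr2 qo462 hn qW_mem qp462 (by decide +kernel)
      have a2 := orbLr2 qo2464 hn qW_mem qp2464 (by decide +kernel)
      have a3 := orbLr2 qo21120 hn qW_mem qp21120 (by decide +kernel)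
      have a4 := orbLr2 qo22528 hn qW_mem qp22528 (by decide +kernel)
      simp only [List.forall_mem_cons, List.not_mem_nil, false_imp_iff, implies_true, and_true]
      refine ⟨⟨hU, two_orb hn sq_U'⟩, ⟨⟨a1.1, ?_⟩, a1.2⟩, ⟨⟨a2.1, ?_⟩, a2.2⟩, ⟨⟨a3.1, ?_⟩, a3.2⟩, ⟨⟨a4.1, ?_⟩, a4.2⟩⟩ <;>
        (rw [← vL_U, dotL (z := 0) (by decide +kernel)]; rfl))
    (by
      simp only [List.map_cons, List.map_nil]
      rw [← vL_U', dotL (z := 32) (by decide +kernel), dotL (z := 0) (by decide +kernel),
        dotL (z := -16) (by decide +kernel), dotL (z := 0) (by decide +kernel), dotL (z := -8) (by decide +kernel),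
        q4L (z := 512) (by decide +kernel), q4L (z := 512) (by decide +kernel), q4L (z := 128) (by decide +kernel),
        q4L (z := 128) (by decide +kernel), q4L (z := 104) (by decide +kernel)]
      decide)
    (by rw [PM_U.2.2.1]; decide)
  have hst : pmS lU ⊓ stabilizer Co0 lU' ≤ pmS lU ⊓ pmS lU' := inf_le_inf_left _ (stab_le_pmS _)
  have p1 := prim_step h2 (a := lU') (hst.trans h1)
  have p2 := prim_step h1 (a := lU') ((inf_le_inf_right _ h2).trans hst)
  have e0 : (orb (pmS lU) lU').ncard = 93150 := by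
    have := (orbLr2 (prog := _) MCo1.c71 (negC_pmS lU) (fun w hw => by
      refine ev_mem_of_letters _ fun x hx => stab_le_pmS _ (fixA_spec MCo1.good.isA MCo1.f2 leechU_eq x ?_)
      exact (by decide : ∀ w ∈ [[3], [4]], ∀ x ∈ w, x ∈ [3, 4]) w hw x hx) MCo1.ptA0 (by decide +kernel)).2
    rw [show vL MCo1.tA0 = lU' from vL_U'] at this
    have h3 := Set.ncard_le_ncard (orb_subset hinv hU) ((finite_sqL 32).subset fun _ h => h.1)
    rw [PM_U.2.2.1] at h3
    omega
  have e1 := key (orb_subset (fun g hg => hinv g (h2 hg)) hU) fun g hg x hx => smul_mem_orb (h1 hg) hx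
  have e2 := two_orb hn sq_U'
  rw [e0] at p1
  simp only [List.map_cons, List.map_nil, List.sum_cons, List.sum_nil, if_pos (self_mem_orb L lU')] at e1
  have e3 : (orb L lU').ncard = 2 ∨ (orb L lU').ncard = 93150 := by
    have := p1.1
    split_ifs at e1 <;> rw [e1] at this ⊢ <;> revert this <;> decide
  rcases e3 with e | e
  · left
    have := Nat.le_of_dvd (by omega) p2.1
    rw [← p2.2 (by omega)]; exact Q_le
  · exact Or.inr (p1.2 e)

theorem P_max {K : Subgroup Co0} (h1 : pmS lU ≤ K) (h2 : frameG ≤ K) : K = ⊤ := by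
  classical
  have hf := fix_pm MCo1.f2 leechU_eq
  have d1 := dot_of (z := 16) (by decide +kernel) leechU_eq (ptOK_vL MCo1.ptA16)
  have d2 := dot_of (z := 8) (by decide +kernel) leechU_eq (ptOK_vL MCo1.ptUV)
  have d3 := dot_of (z := 0) (by decide +kernel) leechU_eq (ptOK_vL MCo1.ptA0)
  have e1 := ncard_inv (K := pmS lU) (f := fun x : LL => |dotInt (lU : Vec) (x : Vec)|) (fun g hg => abs_pmS hg)
    [(lU, 2), (vL MCo1.tA16, 2 * 4600), (vL MCo1.tUV, 2 * 47104), (vL MCo1.tA0, 2 * 46575)] (A := minV)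
    (finite_sqL 32) (fun g _ x => minV_inv g) (by
      simp only [List.forall_mem_cons, List.not_mem_nil, false_imp_iff, implies_true, and_true]
      exact ⟨⟨sq_U, two_orb (negC_pmS _) sq_U⟩,
        orb2 (MCo1.oA16 mC.toModel rfl) (negC_pmS _) hf MCo1.ptA16 (by decide +kernel),
        orb2 (MCo1.oUV mC.toModel rfl) (negC_pmS _) hf MCo1.ptUV (by decide +kernel),
        orb2 (MCo1.oA0 mC.toModel rfl) (negC_pmS _) hf MCo1.ptA0 (by decide +kernel)⟩)
    (by simp only [List.map_cons, List.map_nil, d1, d2, d3, dot_self, sq_U]; decide) (by rw [ncard_minV]; decide)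
    (B := orb K lU) (orb_subset (fun g _ x => minV_inv g) sq_U) fun g hg x hx => smul_mem_orb (h1 hg) hx
  have p1 := prim_step (le_top : K ≤ ⊤) (a := lU) (inf_le_right.trans ((stab_le_pmS _).trans h1))
  rw [orb_min sq_U, ncard_minV] at p1
  have e2 : 2 * 552 ≤ (orb K lU).ncard := by
    have := (orbLr2 ho552 (h2 negC_frame) (K := K) (fun w hw => by
      rcases List.mem_append.1 hw with h | h
      · exact h2 (Q_le (qW_mem w h))
      · rw [List.mem_singleton.1 h]; exact h2 g12_mem) hp552 (by decide +kernel)).2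
    rwa [show vL 0x848080808080808080808080808080808080808080808084 = lU from vL_U] at this
  simp only [List.map_cons, List.map_nil, List.sum_cons, List.sum_nil, if_pos (self_mem_orb K lU)] at e1
  refine p1.2 ?_
  have := p1.1
  split_ifs at e1 <;> rw [e1] at this e2 ⊢ <;> revert this e2 <;> decide

theorem frame_coatom : IsCoatom frameG := by
  classical
  have hW : ∀ w ∈ qW ++ [[12]], ev (gL MCo1.Ws) w ∈ frameG := fun w hw => by
    rcases List.mem_append.1 hw with h | h
    · exact Q_le (qW_mem w h)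
    · rw [List.mem_singleton.1 h]; exact g12_mem
  refine ⟨fun h => ?_, fun K hK => ?_⟩
  · have := card_frameG
    rw [h, Subgroup.card_top, card_Co0] at this
    omega
  rcases Q_max (L := K ⊓ pmS lU) (le_inf (Q_le.trans hK.le) inf_le_left) inf_le_right with h | h
  swap
  · exact P_max (h.ge.trans inf_le_left) hK.le
  exfalso
  have key : ∀ {B : Set LL}, B ⊆ _ → (∀ g ∈ frameG, ∀ x ∈ B, g • x ∈ B) → _ :=
    @ncard_inv _ _ _ _ _ frameG q4 q4_inv
    [(vL tU, 2 * 552), (vL 0x828080828080808280808082808080808082808082828082, 2 * 48576),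
      (vL 0x837f818181817f81817f81817f817f81817f7f8181818181, 2 * 49152)] minV (finite_sqL 32)
    (fun g _ x => minV_inv g) (by
      simp only [List.forall_mem_cons, List.not_mem_nil, false_imp_iff, implies_true, and_true]
      exact ⟨orbLr2 ho552 negC_frame hW hp552 (by decide +kernel), orbLr2 ho48576 negC_frame hW hp48576 (by decide +kernel),
        orbLr2 ho49152 negC_frame hW hp49152 (by decide +kernel)⟩)
    (by
      simp only [List.map_cons, List.map_nil]
      rw [q4L (z := 512) (by decide +kernel), q4L (z := 128) (by decide +kernel), q4L (z := 104) (by decide +kernel)]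
      decide)
    (by rw [ncard_minV]; decide)
  rw [vL_U] at key
  have p := prim_step hK.le (a := lU) ((inf_le_inf_left _ (stab_le_pmS _)).trans h)
  have e1 := key (B := orb K lU) (orb_subset (fun g _ x => minV_inv g) sq_U) fun g hg x hx => smul_mem_orb (hK.le hg) hx
  have e2 := key (B := orb frameG lU) (orb_subset (fun g _ x => minV_inv g) sq_U) fun g hg x hx => smul_mem_orb hg hx
  have hq : ∀ x ∈ orb frameG lU, q4 x = 512 := by
    rintro _ ⟨g, hg, rfl⟩
    rw [q4_inv g hg, ← vL_U, q4L (z := 512) (by decide +kernel)]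
  have n1 : vL 0x828080828080808280808082808080808082808082828082 ∉ orb frameG lU := fun h => by
    have := hq _ h
    rw [q4L (z := 128) (by decide +kernel)] at this; cases this
  have n2 : vL 0x837f818181817f81817f81817f817f81817f7f8181818181 ∉ orb frameG lU := fun h => by
    have := hq _ h
    rw [q4L (z := 104) (by decide +kernel)] at this; cases this
  simp only [List.map_cons, List.map_nil, List.sum_cons, List.sum_nil, if_pos (self_mem_orb _ lU), if_neg n1,
    if_neg n2] at e1 e2
  have d1 : (orb K lU).ncard ∣ 8315553613086720000 := by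
    rw [← card_Co0]
    exact (Dvd.intro _ (card_orb K lU).symm).trans (Subgroup.card_subgroup_dvd_card K)
  rw [e2] at p
  have d2 := p.1
  have d3 := mt p.2 hK.ne
  split_ifs at e1 <;> rw [e1] at d1 d2 d3 <;> revert d1 d2 d3 <;> decide

end H6
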