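import Cfsg.Agent.H6.M24
import Cfsg.Prelude.Def_Spor_Conway
import Cfsg.Prelude.Def_SporadicCombinatorics

/-! The rank 24 lattice: normal form of its vectors, evenness, minimum, automorphisms. -/

namespace H6
open Cfsg Finset
open scoped Pointwise

abbrev Vec : Type := GolayPt → ℤ
abbrev LL : Type := ↥leechLattice

def ind (c : Finset GolayPt) (i : GolayPt) : ℤ := if i ∈ c then 1 else 0

theorem sum_ind (c : Finset GolayPt) : ∑ i, ind c i = c.card := by
  simp [ind]

theorem ind_cases (c : Finset GolayPt) (i : GolayPt) : ind c i = 0 ∨ ind c i = 1 := by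
  unfold ind; split_ifs <;> simp

theorem CC_four {c : Finset GolayPt} (h : c ∈ CC) : ∃ k : ℤ, (c.card : ℤ) = 4 * k := by
  rcases CC_card h with h | h | h | h | h <;> rw [h]
  exacts [⟨0, rfl⟩, ⟨2, rfl⟩, ⟨3, rfl⟩, ⟨4, rfl⟩, ⟨6, rfl⟩]

def Rep (x : Vec) (m : ℤ) (c : Finset GolayPt) (y : Vec) : Prop :=
  c ∈ CC ∧ (∀ i, x i = m + 2 * ind c i + 4 * y i) ∧ (2 : ℤ) ∣ ∑ i, y i - m

theorem Rep.sum {x y : Vec} {m : ℤ} {c : Finset GolayPt} (h : ∀ i, x i = m + 2 * ind c i + 4 * y i) :
    ∑ i, x i = 24 * m + 2 * c.card + 4 * ∑ i, y i := by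
  rw [sum_congr rfl fun i _ => h i, sum_add_distrib, sum_add_distrib, ← mul_sum, ← mul_sum, sum_ind,
    sum_const, card_univ, card_pt]
  simp

theorem Rep.mem {x y : Vec} {m : ℤ} {c : Finset GolayPt} (h : Rep x m c y) : x ∈ leechSet := by
  obtain ⟨hc, hx, hs⟩ := h
  obtain ⟨k, hk⟩ := CC_four hc
  refine ⟨m, fun i => ?_, ?_, fun k => ?_⟩
  · rw [hx i]; unfold Int.ModEq; omega
  · rw [Rep.sum hx, hk]; unfold Int.ModEq; omega
  · by_cases h0 : (k - m) % 4 = 0
    · convert CC_compl hc using 1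
      ext i
      simp only [mem_filter, mem_univ, true_and, mem_compl, hx i, ind]
      unfold Int.ModEq
      split_ifs with h <;> simp only [h, not_true, not_false_iff, iff_true, iff_false] <;> omega
    · by_cases h2 : (k - m) % 4 = 2
      · convert hc using 1
        ext i
        simp only [mem_filter, mem_univ, true_and, hx i, ind]
        unfold Int.ModEq
        split_ifs with h <;> simp only [h, iff_true, iff_false] <;> omega
      · convert CC_empty using 1
        ext i
        simp only [mem_filter, mem_univ, true_and, hx i, notMem_empty, iff_false]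
        unfold Int.ModEq
        rcases ind_cases c i with h | h <;> rw [h] <;> omega

theorem exists_rep {x : Vec} (h : x ∈ leechSet) :
    ∃ m c y, (m = 0 ∨ m = 1) ∧ Rep x m c y := by
  obtain ⟨m, h1, h2, h3⟩ := h
  have hc := h3 (m % 2 + 2)
  set c := univ.filter fun i => x i ≡ m % 2 + 2 [ZMOD 4] with hcd
  have hx : ∀ i, x i = m % 2 + 2 * ind c i + 4 * ((x i - m % 2 - 2 * ind c i) / 4) := by
    intro i
    have := h1 i
    have h4 : i ∈ c ↔ x i % 4 = (m % 2 + 2) % 4 := by rw [hcd, mem_filter]; simp only [mem_univ, true_and]; rfl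
    unfold ind
    unfold Int.ModEq at this
    split_ifs with h <;> rw [h4] at h <;> omega
  refine ⟨m % 2, c, _, by omega, hc, hx, ?_⟩
  obtain ⟨k, hk⟩ := CC_four hc
  rw [Rep.sum hx, hk] at h2
  unfold Int.ModEq at h2
  omega

theorem ind_add (c d : Finset GolayPt) (i : GolayPt) :
    ind c i + ind d i = ind (symmDiff c d) i + 2 * ind (c ∩ d) i := by
  unfold ind
  by_cases h1 : i ∈ c <;> by_cases h2 : i ∈ d <;> simp [h1, h2, mem_symmDiff]

def leechSub : AddSubgroup Vec where
  carrier := leechSet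
  zero_mem' := Rep.mem (m := 0) (c := ∅) (y := 0) ⟨CC_empty, by simp [ind], by simp⟩
  add_mem' := by
    intro x x' h h'
    obtain ⟨m, c, y, -, hc, hx, hs⟩ := exists_rep h
    obtain ⟨m', c', y', -, hc', hx', hs'⟩ := exists_rep h'
    refine Rep.mem (m := m + m') (c := symmDiff c c') (y := fun i => y i + y' i + ind (c ∩ c') i)
      ⟨CC_symmDiff hc hc', fun i => ?_, ?_⟩
    · have := ind_add c c' i
      rw [Pi.add_apply, hx, hx']; beta_reduce; omega
    · have := CC_inter_even hc hc'
      rw [sum_add_distrib, sum_add_distrib, sum_ind]; omega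
  neg_mem' := by
    intro x h
    obtain ⟨m, c, y, -, hc, hx, hs⟩ := exists_rep h
    refine Rep.mem (m := -m) (c := c) (y := fun i => -y i - ind c i) ⟨hc, fun i => ?_, ?_⟩
    · rw [Pi.neg_apply, hx]; beta_reduce; omega
    · obtain ⟨k, hk⟩ := CC_four hc
      rw [sum_sub_distrib, sum_neg_distrib, sum_ind]; omega

theorem leech_eq : leechLattice = leechSub := AddSubgroup.closure_eq leechSub

theorem mem_leech {x : Vec} : x ∈ leechLattice ↔ x ∈ leechSet := by rw [leech_eq]; rfl

theorem Rep.memL {x y : Vec} {m : ℤ} {c : Finset GolayPt} (h : Rep x m c y) : x ∈ leechLattice :=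
  mem_leech.2 h.mem

theorem exists_repL {x : Vec} (h : x ∈ leechLattice) : ∃ m c y, (m = 0 ∨ m = 1) ∧ Rep x m c y :=
  exists_rep (mem_leech.1 h)

/-! ### norms -/

section
variable {α : Type*} [Fintype α]
theorem dot_self (x : α → ℤ) : dotInt x x = sqNorm x := by simp [dotInt, sqNorm, pow_two]
theorem dot_comm (x y : α → ℤ) : dotInt x y = dotInt y x := by simp [dotInt, mul_comm]
theorem dot_add (x y z : α → ℤ) : dotInt (x + y) z = dotInt x z + dotInt y z := by
  simp [dotInt, add_mul, sum_add_distrib]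
theorem dot_add' (x y z : α → ℤ) : dotInt x (y + z) = dotInt x y + dotInt x z := by
  simp [dotInt, mul_add, sum_add_distrib]
theorem dot_neg (x y : α → ℤ) : dotInt (-x) y = -dotInt x y := by simp [dotInt]
theorem dot_neg' (x y : α → ℤ) : dotInt x (-y) = -dotInt x y := by simp [dotInt]
theorem dot_sub (x y z : α → ℤ) : dotInt (x - y) z = dotInt x z - dotInt y z := by
  rw [sub_eq_add_neg, dot_add, dot_neg]; ring
theorem dot_sub' (x y z : α → ℤ) : dotInt x (y - z) = dotInt x y - dotInt x z := by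
  rw [sub_eq_add_neg, dot_add', dot_neg']; ring
theorem dot_smul (a : ℤ) (x y : α → ℤ) : dotInt (a • x) y = a * dotInt x y := by
  simp [dotInt, mul_sum, mul_assoc]
theorem dot_smul' (a : ℤ) (x y : α → ℤ) : dotInt x (a • y) = a * dotInt x y := by
  rw [dot_comm, dot_smul, dot_comm]
theorem dot_zero (y : α → ℤ) : dotInt 0 y = 0 := by simp [dotInt]
theorem dot_sum {ι : Type*} (s : Finset ι) (f : ι → α → ℤ) (y : α → ℤ) :
    dotInt (∑ i ∈ s, f i) y = ∑ i ∈ s, dotInt (f i) y := by
  simp only [dotInt, Finset.sum_apply, sum_mul]; exact sum_comm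
theorem dot_sum' {ι : Type*} (s : Finset ι) (f : ι → α → ℤ) (y : α → ℤ) :
    dotInt y (∑ i ∈ s, f i) = ∑ i ∈ s, dotInt y (f i) := by
  rw [dot_comm, dot_sum]; exact sum_congr rfl fun _ _ => dot_comm _ _
theorem sq_add (x y : α → ℤ) : sqNorm (x + y) = sqNorm x + sqNorm y + 2 * dotInt x y := by
  rw [← dot_self, dot_add, dot_add', dot_add', dot_self, dot_self, dot_comm y x]; ring
theorem sq_neg (x : α → ℤ) : sqNorm (-x) = sqNorm x := by simp [sqNorm]
theorem sq_sub (x y : α → ℤ) : sqNorm (x - y) = sqNorm x + sqNorm y - 2 * dotInt x y := by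
  rw [sub_eq_add_neg, sq_add, sq_neg, dot_neg']; ring
theorem sq_smul (a : ℤ) (x : α → ℤ) : sqNorm (a • x) = a ^ 2 * sqNorm x := by
  rw [← dot_self, dot_smul, dot_smul', dot_self]; ring
theorem sq_two (x : α → ℤ) : sqNorm (2 • x) = 4 * sqNorm x := by
  rw [two_smul, sq_add, dot_self]; ring
theorem sq_nonneg' (x : α → ℤ) : 0 ≤ sqNorm x := sum_nonneg fun _ _ => sq_nonneg _
theorem sq_eq_zero {x : α → ℤ} (h : sqNorm x = 0) : x = 0 := by
  funext i
  exact pow_eq_zero_iff (two_ne_zero) |>.1 ((sum_eq_zero_iff_of_nonneg fun _ _ => sq_nonneg _).1 h i (mem_univ i))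
theorem sq_zero : sqNorm (0 : α → ℤ) = 0 := by simp [sqNorm]
theorem sq_le (x : α → ℤ) (i : α) : x i ^ 2 ≤ sqNorm x :=
  single_le_sum (f := fun i => x i ^ 2) (fun _ _ => sq_nonneg _) (mem_univ i)
theorem finite_sq (n : ℤ) : {x : α → ℤ | sqNorm x = n}.Finite := by
  refine (Set.Finite.pi' (t := fun _ : α => Set.Icc (-n) n) fun _ => Set.finite_Icc _ _).subset ?_
  intro x hx i
  have h1 := sq_le x i
  rw [show sqNorm x = n from hx] at h1
  constructor <;> nlinarith [sq_nonneg (x i + 1), sq_nonneg (x i - 1), sq_nonneg (x i)]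
theorem dot_single [DecidableEq α] (x : α → ℤ) (i : α) (a : ℤ) : dotInt x (Pi.single i a) = x i * a := by
  simp [dotInt, Pi.single_apply]
theorem sq_single [DecidableEq α] (i : α) (a : ℤ) : sqNorm (Pi.single i a : α → ℤ) = a ^ 2 := by
  rw [← dot_self, dot_single]; simp [pow_two]
end

theorem sq_dvd {x : Vec} (h : x ∈ leechLattice) : (16 : ℤ) ∣ sqNorm x := by
  obtain ⟨m, c, y, hm, hc, hx, hs⟩ := exists_repL h
  obtain ⟨k, hk⟩ := CC_four hc
  have e : ∀ i, x i ^ 2 = m ^ 2 + (4 * m + 4) * ind c i + 8 * m * y i + 16 * (y i * ind c i + y i ^ 2) := by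
    intro i; rw [hx]; rcases ind_cases c i with h | h <;> rw [h] <;> ring
  unfold sqNorm
  rw [sum_congr rfl fun i _ => e i, sum_add_distrib, sum_add_distrib, sum_add_distrib, ← mul_sum, ← mul_sum,
    ← mul_sum, sum_ind, sum_const, card_univ, card_pt, hk]
  rcases hm with rfl | rfl <;> simp only [nsmul_eq_mul] <;> omega

theorem dot_dvd {x y : Vec} (hx : x ∈ leechLattice) (hy : y ∈ leechLattice) : (8 : ℤ) ∣ dotInt x y := by
  have h1 := sq_dvd (add_mem hx hy)
  have h2 := sq_dvd hx
  have h3 := sq_dvd hy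
  rw [sq_add] at h1
  omega

theorem sq_min {x : Vec} (h : x ∈ leechLattice) (h0 : x ≠ 0) : 32 ≤ sqNorm x := by
  have hd := sq_dvd h
  obtain ⟨m, c, y, hm, hc, hx, hs⟩ := exists_repL h
  rcases hm with rfl | rfl
  · by_cases h1 : c = ∅
    · subst h1
      have e : ∀ i, x i ^ 2 = 16 * y i ^ 2 := by intro i; rw [hx]; simp [ind]; ring
      have h2 : sqNorm x = 16 * sqNorm y := by unfold sqNorm; rw [mul_sum]; exact sum_congr rfl fun i _ => e i
      have h3 : (2 : ℤ) ∣ sqNorm y - ∑ i, y i := by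
        unfold sqNorm
        rw [← sum_sub_distrib]
        exact dvd_sum fun i _ => by
          have := Int.even_mul_pred_self (y i)
          rw [show y i ^ 2 - y i = y i * (y i - 1) by ring]; exact this.two_dvd
      have h4 : sqNorm x ≠ 0 := fun h => h0 (sq_eq_zero h)
      have h5 := sq_nonneg' x
      omega
    · have h2 : (8 : ℤ) ≤ c.card := by
        have := card_pos.2 (nonempty_iff_ne_empty.2 h1)
        rcases CC_card hc with h | h | h | h | h <;> omega
      have h3 : 4 * (c.card : ℤ) ≤ sqNorm x := by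
        rw [← sum_ind, mul_sum]
        refine sum_le_sum fun i _ => ?_
        rw [hx]
        rcases ind_cases c i with h | h <;> rw [h]
        · positivity
        · by_cases h6 : 0 ≤ y i <;> nlinarith
      omega
  · have h3 : (24 : ℤ) ≤ sqNorm x := by
      have : ∑ _i : GolayPt, (1 : ℤ) = 24 := by rw [sum_const, card_univ, card_pt]; rfl
      rw [← this]
      refine sum_le_sum fun i _ => ?_
      have : x i ≠ 0 := by rw [hx]; omega
      exact (one_le_sq_iff_one_le_abs _).2 (Int.one_le_abs this)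
    omega

theorem perm_mem {σ : Equiv.Perm GolayPt} (hσ : σ ∈ M24) {x : Vec} (h : x ∈ leechLattice) :
    (fun i => x (σ i)) ∈ leechLattice := by
  obtain ⟨m, c, y, hm, hc, hx, hs⟩ := exists_repL h
  refine Rep.memL (m := m) (c := σ⁻¹ • c) (y := fun i => y (σ i))
    ⟨(smul_mem_CC (inv_mem hσ)).2 hc, fun i => ?_, ?_⟩
  · beta_reduce; rw [hx]; simp only [ind, Finset.mem_inv_smul_finset_iff]; rfl
  · rwa [Equiv.sum_comp σ y]

theorem two_ind_mem {c : Finset GolayPt} (hc : c ∈ CC) : (fun i => 2 * ind c i) ∈ leechLattice :=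
  Rep.memL (m := 0) (c := c) (y := 0) ⟨hc, by simp, by simp⟩

theorem four_mem {y : Vec} (h : (2 : ℤ) ∣ ∑ i, y i) : (fun i => 4 * y i) ∈ leechLattice :=
  Rep.memL (m := 0) (c := ∅) (y := y) ⟨CC_empty, by simp [ind], by simpa using h⟩

theorem sign_mem {c : Finset GolayPt} (hc : c ∈ CC) {x : Vec} (h : x ∈ leechLattice) :
    (fun i => if i ∈ c then -x i else x i) ∈ leechLattice := by
  obtain ⟨m, d, y, hm, hd, hx, hs⟩ := exists_repL h
  have h1 := sub_mem (sub_mem h (AddSubgroup.zsmul_mem _ (two_ind_mem hc) m))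
    (four_mem (y := fun i => ind (c ∩ d) i + 2 * (ind c i * y i)) (by
      have := CC_inter_even hc hd
      rw [sum_add_distrib, sum_ind, ← mul_sum]; omega))
  convert h1 using 1
  funext i
  simp only [Pi.sub_apply, Pi.smul_apply, smul_eq_mul, hx i, ind, mem_inter]
  by_cases h1 : i ∈ c <;> by_cases h2 : i ∈ d <;> simp [h1, h2] <;> ring

theorem single_mem (i : GolayPt) (a : ℤ) : (Pi.single i (8 * a) : Vec) ∈ leechLattice := by
  have := four_mem (y := Pi.single i (2 * a)) (by simp)
  convert this using 1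
  funext j
  by_cases h : j = i
  · subst h; simp; ring
  · simp [h]

/-! ### automorphisms -/

theorem smul_def (g : Co0) (v : LL) : g • v = (g : Equiv.Perm LL) v := rfl

instance : DistribMulAction Co0 LL where
  smul_add g v w := g.2.1 v w
  smul_zero g := by
    have : g • ((0 : LL) + 0) = g • (0 : LL) + g • (0 : LL) := g.2.1 0 0
    rw [add_zero] at this
    exact left_eq_add.1 this

theorem sq_smulL (g : Co0) (v : LL) : sqNorm ((g • v : LL) : Vec) = sqNorm (v : Vec) := g.2.2 v

theorem dot_smulL (g : Co0) (v w : LL) :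
    dotInt ((g • v : LL) : Vec) ((g • w : LL) : Vec) = dotInt (v : Vec) (w : Vec) := by
  have h := sq_smulL g (v + w)
  rw [smul_add, AddSubgroup.coe_add, AddSubgroup.coe_add, sq_add, sq_add, sq_smulL, sq_smulL] at h
  omega

theorem co0_ext {g h : Co0} (e : ∀ v : LL, g • v = h • v) : g = h := Subtype.ext (Equiv.ext e)

theorem finite_sqL (n : ℤ) : {x : LL | sqNorm (x : Vec) = n}.Finite :=
  (finite_sq n).preimage Subtype.val_injective.injOn

theorem bij_of_iso (f : LL →+ LL) (h : ∀ v, sqNorm (f v : Vec) = sqNorm (v : Vec)) : Function.Bijective f := by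
  have hi : Function.Injective f := (injective_iff_map_eq_zero f).2 fun v hv => by
    have := h v
    rw [hv] at this
    exact Subtype.ext (sq_eq_zero (this.symm.trans sq_zero))
  refine ⟨hi, fun w => ?_⟩
  have := ((finite_sqL (sqNorm (w : Vec))).injOn_iff_bijOn_of_mapsTo (f := f)
    (fun v hv => (h v).trans hv)).1 hi.injOn
  obtain ⟨v, -, hv⟩ := this.surjOn (show w ∈ _ from rfl)
  exact ⟨v, hv⟩

noncomputable def isoOf (f : LL →+ LL) (h : ∀ v, sqNorm (f v : Vec) = sqNorm (v : Vec)) : Co0 :=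
  ⟨Equiv.ofBijective f (bij_of_iso f h), fun v w => f.map_add v w, h⟩

theorem isoOf_smul (f : LL →+ LL) (h) (v : LL) : isoOf f h • v = f v := rfl

theorem signedPerm_mem {σ : Equiv.Perm GolayPt} (hσ : σ ∈ M24) {c : Finset GolayPt} (hc : c ∈ CC) {x : Vec}
    (h : x ∈ leechLattice) : signedPerm σ c x ∈ leechLattice :=
  sign_mem hc (perm_mem (inv_mem hσ) h)

theorem sq_signedPerm (σ : Equiv.Perm GolayPt) (c : Finset GolayPt) (x : Vec) :
    sqNorm (signedPerm σ c x) = sqNorm x := by
  unfold sqNorm signedPerm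
  rw [← Equiv.sum_comp σ.symm (fun i => x i ^ 2)]
  exact sum_congr rfl fun i _ => by split_ifs <;> simp

/-- the signed permutation as an automorphism -/
noncomputable def mono (σ : M24) (c : CC) : Co0 :=
  isoOf ⟨⟨fun v => ⟨signedPerm σ c v, signedPerm_mem σ.2 c.2 v.2⟩, by ext i; simp [signedPerm]⟩, fun v w => by
    ext i
    simp only [signedPerm, AddSubgroup.coe_add, Pi.add_apply]
    split_ifs <;> ring⟩ fun v => sq_signedPerm _ _ _

theorem mono_smul (σ : M24) (c : CC) (v : LL) : ((mono σ c • v : LL) : Vec) = signedPerm σ c v := rfl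

theorem mono_apply (σ : M24) (c : CC) (v : LL) (i : GolayPt) :
    ((mono σ c • v : LL) : Vec) (σ • i) = if σ • i ∈ c.1 then -(v : Vec) i else (v : Vec) i := by
  rw [mono_smul, signedPerm, smul_pt_def, Equiv.symm_apply_apply]

/-- negation -/
noncomputable def negC : Co0 := isoOf (-AddMonoidHom.id LL) fun _ => sq_neg _

theorem negC_smul (v : LL) : negC • v = -v := rfl

theorem negC_comm (g : Co0) : g * negC = negC * g :=
  co0_ext fun v => by rw [mul_smul, mul_smul, negC_smul, negC_smul, smul_neg]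

theorem negC_sq : negC * negC = 1 := co0_ext fun v => by rw [mul_smul, negC_smul, negC_smul, neg_neg, one_smul]

theorem negC_inv : negC⁻¹ = negC := inv_eq_of_mul_eq_one_right negC_sq

theorem neg_ne {v : LL} (h : v ≠ 0) : -v ≠ v := fun e => h (by
  ext i
  have := congrArg (fun x : LL => (x : Vec) i) e
  simp only [AddSubgroup.coe_neg, Pi.neg_apply] at this
  simp; omega)

theorem ne_zero_of_sq {v : LL} {n : ℤ} (h : sqNorm (v : Vec) = n) (hn : n ≠ 0) : v ≠ 0 := by
  rintro rfl
  exact hn (h.symm.trans sq_zero)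

/-- the frame vectors -/
def fr (i : GolayPt) : LL := ⟨Pi.single i 8, single_mem i 1⟩

theorem sq_fr (i : GolayPt) : sqNorm (fr i : Vec) = 64 := sq_single i 8

theorem dot_fr (x : Vec) (i : GolayPt) : dotInt x (fr i : Vec) = 8 * x i := by
  rw [mul_comm]; exact dot_single x i 8

theorem negC_ne_one : negC ≠ 1 := fun h => neg_ne (ne_zero_of_sq (sq_fr none) (by decide)) (by
  rw [← negC_smul, h, one_smul])

theorem eight_smul (v : LL) : (8 : ℤ) • v = ∑ i, (v : Vec) i • fr i := by
  ext j
  simp only [fr, AddSubgroup.coe_zsmul, AddSubmonoidClass.coe_finsetSum, Finset.sum_apply, Pi.smul_apply,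
    smul_eq_mul, Pi.single_apply, mul_ite, mul_zero, sum_ite_eq, mem_univ, if_true]
  ring

theorem smul_zsmul (g : Co0) (a : ℤ) (v : LL) : g • a • v = a • g • v :=
  (DistribSMul.toAddMonoidHom LL g).map_zsmul a v

/-- an automorphism is determined by its values on the frame -/
theorem coord_of_fr (g : Co0) (v : LL) (j : GolayPt) :
    8 * ((g • v : LL) : Vec) j = ∑ i, (v : Vec) i * ((g • fr i : LL) : Vec) j := by
  have h := congrArg (fun x : LL => ((g • x : LL) : Vec) j) (eight_smul v)
  simp only [smul_zsmul, smul_sum, AddSubgroup.coe_zsmul, AddSubmonoidClass.coe_finsetSum, Finset.sum_apply,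
    Pi.smul_apply, smul_eq_mul] at h
  exact h

end H6
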