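import Cfsg.Agent.H6.More
import Cfsg.Agent.H6.CoxA

/-! Sylow counting in subgroups of `M24`. -/

namespace H6
open Cfsg Finset MulAction
open scoped Pointwise
set_option maxRecDepth 100000

theorem card_norm_in {G : Type*} [Group G] [Finite G] {K : Subgroup G} {x : G} (hx : x ∈ K) {p a : ℕ} (hp : p.Prime)
    (ho : orderOf x = p) (hc : Nat.card (Subgroup.centralizer {x}) ≤ p) (hK : Nat.card K = p * a) (ha : ¬ p ∣ a) :
    Nat.card ↥(K ⊓ Subgroup.normalizer (Subgroup.zpowers x : Set G)) = p * (a % p) := by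
  have h1 : orderOf (⟨x, hx⟩ : K) = p := by rw [← ho]; exact Subgroup.orderOf_mk _ _
  have h2 : Nat.card (Subgroup.centralizer {(⟨x, hx⟩ : K)}) = p := by
    apply le_antisymm
    · refine le_trans ?_ hc
      rw [← Subgroup.card_subtype]
      refine Subgroup.card_le_of_le ?_
      rintro _ ⟨y, hy, rfl⟩
      exact Subgroup.mem_centralizer_singleton_iff.2 (congrArg Subtype.val (Subgroup.mem_centralizer_singleton_iff.1 hy))
    · rw [← h1, ← Nat.card_zpowers]
      exact Subgroup.card_le_of_le (Subgroup.zpowers_le_of_mem (Subgroup.mem_centralizer_singleton_iff.2 rfl))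
  have h3 := norm_card hp h1 h2 hK (by rw [pow_two]; exact fun h => ha (Nat.dvd_of_mul_dvd_mul_left hp.pos h))
  have h4 : Subgroup.zpowers (⟨x, hx⟩ : K) = (Subgroup.zpowers x).subgroupOf K := by
    ext y; simp only [Subgroup.mem_subgroupOf, Subgroup.mem_zpowers_iff, Subtype.ext_iff, SubgroupClass.coe_zpow]
  rw [← h3, h4, ← Subgroup.subgroupOf_normalizer_eq (Subgroup.zpowers_le_of_mem hx), ← Subgroup.inf_subgroupOf_left]
  exact (Nat.card_congr (Subgroup.subgroupOfEquivOfLe inf_le_left).toEquiv).symm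

theorem syl_con {G : Type*} [Group G] [Finite G] {K M : Subgroup G} (hKM : K ≤ M) {x : G} (hx : x ∈ K) {p a b : ℕ}
    (hp : p.Prime) (ho : orderOf x = p) (hc : Nat.card (Subgroup.centralizer {x}) ≤ p) (hK : Nat.card K = p * a)
    (hM : Nat.card M = p * b) (hb : ¬ p ∣ b) : a % p ∣ b % p ∧ a % p ∣ a := by
  have h0 := Subgroup.card_dvd_of_le hKM
  rw [hK, hM] at h0
  have h1 := card_norm_in hx hp ho hc hK fun h => hb (h.trans (Nat.dvd_of_mul_dvd_mul_left hp.pos h0))
  have h2 := card_norm_in (hKM hx) hp ho hc hM hb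
  have h3 := Subgroup.card_dvd_of_le (inf_le_inf_right (Subgroup.normalizer (Subgroup.zpowers x : Set G)) hKM)
  have h4 := Subgroup.card_dvd_of_le (inf_le_left : K ⊓ Subgroup.normalizer (Subgroup.zpowers x : Set G) ≤ K)
  rw [h1, h2] at h3
  rw [h1, hK] at h4
  exact ⟨Nat.dvd_of_mul_dvd_mul_left hp.pos h3, Nat.dvd_of_mul_dvd_mul_left hp.pos h4⟩

theorem div_all {N b : ℕ} (P : ℕ → Prop) (hN : 0 < N) (hb : N < (b + 1) * (b + 1))
    (h : ∀ d ≤ b, d ∣ N → P d ∧ P (N / d)) : ∀ n, n ∣ N → P n := by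
  rintro n ⟨m, rfl⟩
  by_cases h1 : n ≤ b
  · exact (h n h1 (Dvd.intro _ rfl)).1
  · have h2 : m ≤ b := by by_contra h2; nlinarith
    have := (h m h2 (Dvd.intro_left _ rfl)).2
    rwa [Nat.mul_div_cancel _ (Nat.pos_of_mul_pos_left hN)] at this

theorem coatom_subgroupOf {G : Type*} [Group G] {B M : Subgroup G} (h1 : B ≤ M) (h2 : B ≠ M)
    (h : ∀ K, B ≤ K → K ≤ M → K = B ∨ K = M) : IsCoatom (B.subgroupOf M) := by
  refine ⟨fun e => h2 (le_antisymm h1 (Subgroup.subgroupOf_eq_top.1 e)), fun K hK => ?_⟩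
  have h3 : B ≤ K.map M.subtype := fun x hx => ⟨⟨x, h1 hx⟩, hK.le hx, rfl⟩
  rcases h _ h3 (Subgroup.map_subtype_le _) with e | e
  · exact absurd (fun (x : M) hx => (show x.1 ∈ B from e ▸ ⟨x, hx, rfl⟩)) (not_le_of_gt hK)
  · rw [eq_top_iff]; intro x _
    obtain ⟨y, hy, e2⟩ := e.ge x.2
    exact (Subtype.ext e2 : y = x) ▸ hy

theorem norm_of_conj {G : Type*} [Group G] [Finite G] {g x : G} {k : ℕ} (h : g * x * g⁻¹ = x ^ k) :
    g ∈ Subgroup.normalizer (Subgroup.zpowers x : Set G) := Subgroup.mem_normalizer_fintype (by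
  rintro _ ⟨n, rfl⟩
  rw [← conj_zpow, h]; exact zpow_mem (Subgroup.npow_mem_zpowers _ _) _)

def tα : ℕ := 0xb82d5a4e5183dcd62d4941cc520c41
def tβ : ℕ := 0xbd6717b56939461b52507314831040
def tγ : ℕ := 0x5883388a1c8f5140b46cd317aed7
def tδ : ℕ := 0xbba8ab116d7c52899d90286a219a40
theorem gα : Gd tα := gd_of (by decide +kernel)
theorem gβ : Gd tβ := gd_of (by decide +kernel)
theorem gγ : Gd tγ := gd_of (by decide +kernel)
theorem gδ : Gd tδ := gd_of (by decide +kernel)
theorem oα : orderOf (E tα) = 23 :=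
  haveI : Fact (Nat.Prime 23) := ⟨by norm_num⟩
  orderOf_eq_prime (gα.pow_eq_one (by decide +kernel)) (gα.ne_one_iff.2 (by decide +kernel))
theorem oβ : orderOf (E tβ) = 11 :=
  haveI : Fact (Nat.Prime 11) := ⟨by norm_num⟩
  orderOf_eq_prime (gβ.pow_eq_one (by decide +kernel)) (gβ.ne_one_iff.2 (by decide +kernel))

theorem cent_bd {t : ℕ} (ht : Gd t) (m a n : ℕ) (steps : List (List ℕ))
    (h : (allLt 24 (fun j => Nat.beq (ap t j) j == tb m j) && Nat.blt a 24 && !(tb m a) &&
      Nat.beq (fixSteps steps (imgs a ((List.range n).map (powT t)))) 16777215) = true) :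
    Nat.card (Subgroup.centralizer {E t}) ≤ 24 - pc m := by
  simp only [Bool.and_eq_true, Nat.blt_eq, Bool.not_eq_true'] at h
  have h1 := cent_le_stab_fix (ht.fix_iff h.1.1.1)
  have h2 : Subgroup.centralizer {E t} ⊓ stabilizer M24 (pt a) = ⊥ := by
    rw [eq_bot_iff]
    intro c hc
    refine cent_eq_one (ck_inL (K := Subgroup.zpowers (E t)) (l := (List.range n).map (powT t)) fun s hs => ?_)
      (fun x hx => ?_) h.1.1.2 hc.2 _ steps (Bool.and_eq_true_iff.2 ⟨allL_iff.2 fun s hs => anyL_iff.2 ⟨s, hs, Nat.beq_refl _⟩, h.2⟩)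
    · obtain ⟨k, -, rfl⟩ := List.mem_map.1 hs
      exact ⟨(ht.pow k).1, by rw [(ht.pow k).2]; exact Subgroup.npow_mem_zpowers _ _⟩
    · obtain ⟨k, rfl⟩ := hx
      exact ((Commute.zpow_right (Subgroup.mem_centralizer_singleton_iff.1 hc.1) k))
  rw [card_orb _ (pt a), h2, Subgroup.card_bot, mul_one, ← card_dec, ← ncard_compl_pts]
  refine Set.ncard_le_ncard (orb_subset (A := {p | p ∉ dec m}) (fun g hg b hb h => hb ((smul_mem_of_stab (h1 hg)).1 h)) ?_)
  show pt a ∉ dec m
  rw [mem_dec, idx_pt h.1.1.2, ← tb_eq, h.1.2]; simp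

theorem cα : Nat.card (Subgroup.centralizer {E tα}) ≤ 23 :=
  (cent_bd gα 0x800000 0 23 [[0xc75001]] (by decide +kernel)).trans (by decide +kernel)

theorem cent_invol {x : M24} (h : orderOf x = 2) :
    Nat.card (Subgroup.centralizer {x}) = 21504 ∨ Nat.card (Subgroup.centralizer {x}) = 7680 := by
  rcases invol_class (x := x) (by rintro rfl; simp at h) (by rw [← pow_two, ← h, pow_orderOf_eq_one]) with
    ⟨g, rfl⟩ | ⟨g, rfl⟩
  · exact Or.inl ((Cj.cent g _).card.trans card_cent_zA)
  · exact Or.inr ((Cj.cent g _).card.trans card_cent_zB)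

theorem cβ : Nat.card (Subgroup.centralizer {E tβ}) ≤ 11 := by
  have h1 : _ ≤ 22 := (cent_bd gβ 0x800001 1 11 [[0x34200f, 0xc12017], [0x34200f, 0x159013], [0x34200f], [0x159013],
    [0xa53042], [0xd4b004], [0x713021], [0x3da100], [0x49f002], [0xc75001], [0x1ed080], [0xb1d400], [0xe3a800]]
    (by decide +kernel)).trans (by decide +kernel)
  have h2 : 11 ∣ Nat.card (Subgroup.centralizer {E tβ}) :=
    oβ ▸ Subgroup.orderOf_dvd_natCard _ (Subgroup.mem_centralizer_singleton_iff.2 rfl)
  have h3 : ¬ 2 ∣ Nat.card (Subgroup.centralizer {E tβ}) := fun h => by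
    obtain ⟨x, hx⟩ := exists_prime_orderOf_dvd_card' 2 h
    have h4 := Subgroup.orderOf_dvd_natCard (Subgroup.centralizer {x.1})
      (Subgroup.mem_centralizer_singleton_iff.2 (Subgroup.mem_centralizer_singleton_iff.1 x.2).symm)
    rw [oβ] at h4
    rcases cent_invol ((Subgroup.orderOf_coe x).trans hx) with e | e <;> rw [e] at h4 <;> omega
  omega

set_option synthInstance.maxSize 4096 in
/-- overgroups of `23:11` in `M23` -/
theorem max_B {K : Subgroup M24} (h1 : E tα ∈ K) (h2 : E tβ ∈ K) (h3 : K ≤ stabilizer M24 (none : GolayPt)) :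
    Nat.card K = 253 ∨ K = stabilizer M24 (none : GolayPt) := by
  have d1 := oα ▸ K.orderOf_dvd_natCard h1
  have d2 := oβ ▸ K.orderOf_dvd_natCard h2
  obtain ⟨n, hn⟩ : 253 ∣ Nat.card K := Nat.Coprime.mul_dvd_of_dvd_of_dvd (m := 23) (n := 11) (by norm_num) d1 d2
  have d3 := Subgroup.card_dvd_of_le h3
  rw [hn, card_stab1] at d3
  have a0 := card_norm_in h1 (a := 11 * n) (by norm_num) oα cα (by omega) fun h => by
    have := (Nat.mul_dvd_mul_left 23 h).trans (show 23 * (11 * n) ∣ 10200960 by rwa [← mul_assoc])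
    omega
  have a1 := Subgroup.orderOf_dvd_natCard _ (Subgroup.mem_inf.2 ⟨h2, norm_of_conj (k := 2)
    ((gα.conj gβ (gα.pow 2).1 (by decide +kernel)).trans (gα.pow 2).2)⟩)
  rw [a0, oβ] at a1
  have a3 := (syl_con h3 h1 (a := 11 * n) (b := 443520) (by norm_num) oα cα (by omega) (card_stab1 _) (by norm_num)).1
  have a2 := (syl_con h3 h2 (a := 23 * n) (b := 927360) (by norm_num) oβ cβ (by omega) (card_stab1 _) (by norm_num)).1
  have := div_all (N := 40320) (b := 200) (fun n => 11 * n % 23 ∣ 443520 % 23 → 11 ∣ 23 * (11 * n % 23) → 23 * n % 11 ∣ 927360 % 11 →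
    n = 1 ∨ n = 40320) (by norm_num) (by norm_num) (by decide +kernel) n
    (Nat.dvd_of_mul_dvd_mul_left (k := 253) (by norm_num) d3) a3 a1 a2
  rcases this with rfl | rfl
  · exact Or.inl hn
  · exact Or.inr (eq_of_le_of_card_le h3 (by rw [hn, card_stab1]))

def mA (mask : ℕ) : Set (Finset GolayPt) := {S | S ∈ CC ∧ tb mask (hC (enc S)) = true}

theorem mA_stab {mask t : ℕ} (ht : Gd t)
    (h : allLt 4096 (fun n => !(tb mask (hC (cw n))) || tb mask (hC (img t (cw n)))) = true) :
    E t ∈ stabilizer M24 (mA mask) := by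
  refine Set.eq_of_subset_of_ncard_le ?_ (by rw [Set.ncard_smul_set])
  rintro _ ⟨S, hS, rfl⟩
  refine ⟨(smul_mem_CC (E t).2).2 hS.1, ?_⟩
  have := forall_CC (P := fun S => (!(tb mask (hC (enc S))) || tb mask (hC (img t (enc S)))) = true)
    (fun m => !(tb mask (hC m)) || tb mask (hC (img t m))) h (fun _ h => h) S hS.1
  rw [hS.2] at this
  show tb mask (hC (enc (E t • S))) = true
  rw [ht.enc_smul]; simpa using this

def mL : ℕ := 0x2002400000c100000100000620120004100020320000010001418100205020000204200040204000d0c00000000080100600001584240036000080032000a00001000040024050002001808081650100000658290080014000002100040400001000015800400000323817088a00000061410802820408041060c000020480000081201000084001000000810202108000044000001880044148002b831080501000002011c215044a212048800844230064040001004020000005000a4000200409102612000011388800418000001028006040940021e04408084000200802000380150030040000440084010008802200200288090208002000400208001040020004001040901140040044011000802100220000200c00a801c00040100400021010220784002902060014080000018200111c88000048640890200400025000a000000402008000202600c42210011204845220a84388040000080a0108c1d4001282200118000002200001084040810000008002100008048100000120400003060820102041401082860000005110e81c4c000002001a800008000020200084000002800100941a60000080a68101018004000a02400200008000050004c00100006c002421a8000060080100000000030b000204020004204000040a0400818280008000004c04000820004804600000800000830000024004000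

theorem max_L {K : Subgroup M24} (h1 : E tα ∈ K) (h2 : E tβ ∈ K) (h3 : E tγ ∈ K) : Nat.card K = 6072 ∨ K = ⊤ := by
  have h4 : (orb K (none : GolayPt)).ncard = 24 := by
    have h5 := (ck_inL (K := K) (l := [tα, tγ]) (by simp [gα, gγ, h1, h3])).orbP_le (gs := [tα, tγ])
      (by decide +kernel) (j := 23) (by decide)
    have h6 := Set.ncard_le_ncard (Set.subset_univ (orb K (none : GolayPt)))
    rw [Set.ncard_univ, Nat.card_eq_fintype_card, card_pt] at h6
    exact le_antisymm h6 (le_trans (by decide +kernel) h5)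
  have h5 := card_orb K (none : GolayPt)
  rw [h4] at h5
  rcases max_B (K := K ⊓ stabilizer M24 (none : GolayPt)) ⟨h1, (ckP 23 _ (by decide +kernel)).2⟩
    ⟨h2, (ckP 23 _ (by decide +kernel)).2⟩ inf_le_right with h | h
  · left; rw [h5, h]
  · right; exact eq_of_le_of_card_le le_top (by rw [h5, h, card_stab1, card_top_M24])

theorem L_proper : E tα ∈ stabilizer M24 (mA mL) ∧ E tβ ∈ stabilizer M24 (mA mL) ∧ E tγ ∈ stabilizer M24 (mA mL) ∧
    stabilizer M24 (mA mL) ≠ ⊤ := by
  refine ⟨mA_stab gα (by decide +kernel), mA_stab gβ (by decide +kernel), mA_stab gγ (by decide +kernel), fun h => ?_⟩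
  obtain ⟨g, hg⟩ := tr_dodecad D0_mem (dec_mem_dodecads (m := 0x7dd00d) (by decide +kernel))
  have h1 : g • mA mL = mA mL := h.ge trivial
  have h2 : dec 0x7dd00d ∈ mA mL := by
    rw [← h1, ← hg]; exact Set.smul_mem_smul_set ⟨D0_mem.1, by decide +kernel⟩
  exact absurd h2.2 (by decide +kernel)

end H6
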